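/-
Universal first order thickenings of formally unramified algebras.
-/
import Groth.Prelude.Def_Omega3
import Mathlib

universe u

namespace Groth.Agent.OmegaThick

open MvPolynomial TensorProduct

variable {R S : Type u} [CommRing R] [CommRing S] [Algebra R S]

/-- Perturbing an evaluation by square-zero elements is a derivation. -/
theorem aeval_add_eq {σ : Type u} {A : Type u} [CommRing A] [Algebra R A] (I : Ideal A) (hI : I ^ 2 = ⊥)
    (g : σ → A) (c : σ → A) (hc : ∀ s, c s ∈ I) :
    letI : Algebra (MvPolynomial σ R) A := (aeval g).toRingHom.toAlgebra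
    haveI : IsScalarTower R (MvPolynomial σ R) A := IsScalarTower.of_algebraMap_eq fun r => ((aeval g).commutes r).symm
    ∀ f, mkDerivation R c f ∈ I ∧ aeval (fun s => g s + c s) f = aeval g f + mkDerivation R c f := by
  letI : Algebra (MvPolynomial σ R) A := (aeval g).toRingHom.toAlgebra
  haveI : IsScalarTower R (MvPolynomial σ R) A := IsScalarTower.of_algebraMap_eq fun r => ((aeval g).commutes r).symm
  have hsmul : ∀ (f : MvPolynomial σ R) (a : A), f • a = aeval g f * a := fun f a => rfl
  intro f
  induction f using MvPolynomial.induction_on with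
  | C r => simp [MvPolynomial.derivation_C, I.zero_mem]
  | add p q hp hq => exact ⟨by rw [map_add]; exact I.add_mem hp.1 hq.1, by rw [map_add, map_add, map_add, hp.2, hq.2]; ring⟩
  | mul_X p s hp =>
    have h0 : mkDerivation R c p * c s = 0 := by
      have h1 : mkDerivation R c p * c s ∈ I * I := Ideal.mul_mem_mul hp.1 (hc s)
      rwa [← pow_two, hI] at h1
    rw [Derivation.leibniz, mkDerivation_X, hsmul, hsmul, aeval_X]
    refine ⟨I.add_mem (I.mul_mem_left _ (hc s)) (I.mul_mem_left _ hp.1), ?_⟩
    rw [map_mul, map_mul, aeval_X, aeval_X, hp.2]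
    linear_combination h0

theorem exists_univ [Algebra.FormallyUnramified R S] :
    ∃ (S' : Type u) (_ : CommRing S') (_ : Algebra R S') (π : S' →ₐ[R] S),
      OmegaSh.IsUnivThickeningRing R S S' π := by
  classical
  let π₀ : MvPolynomial S R →ₐ[R] S := aeval id
  have hπ₀ : Function.Surjective π₀ := fun s => ⟨X s, by simp [π₀]⟩
  letI : Algebra (MvPolynomial S R) S := π₀.toRingHom.toAlgebra
  haveI : IsScalarTower R (MvPolynomial S R) S := IsScalarTower.of_algebraMap_eq fun r => (π₀.commutes r).symm
  have hsurj : Function.Surjective (algebraMap (MvPolynomial S R) S) := hπ₀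
  let J : Ideal (MvPolynomial S R) := RingHom.ker (algebraMap (MvPolynomial S R) S)
  have hex : ∀ s : S, ∃ x ∈ J, (1 : S) ⊗ₜ[MvPolynomial S R] KaehlerDifferential.D R (MvPolynomial S R) x =
      (1 : S) ⊗ₜ KaehlerDifferential.D R (MvPolynomial S R) (X s) := by
    intro s
    obtain ⟨y, hy⟩ := (KaehlerDifferential.exact_kerCotangentToTensor_mapBaseChange R (MvPolynomial S R) S hsurj
      ((1 : S) ⊗ₜ KaehlerDifferential.D R (MvPolynomial S R) (X s))).mp (Subsingleton.elim _ _)
    obtain ⟨⟨x, hx⟩, rfl⟩ := Ideal.toCotangent_surjective _ y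
    exact ⟨x, hx, hy⟩
  choose e he hDe using hex
  let K : Ideal (MvPolynomial S R) := J ^ 2 ⊔ Ideal.span (Set.range e)
  have hKJ : K ≤ J := sup_le (Ideal.pow_le_self two_ne_zero) (Ideal.span_le.mpr (by rintro _ ⟨s, rfl⟩; exact he s))
  let π : MvPolynomial S R ⧸ K →ₐ[R] S := Ideal.Quotient.liftₐ K π₀ fun x hx => hKJ hx
  have hπmk : ∀ x, π (Ideal.Quotient.mk K x) = π₀ x := fun x => rfl
  refine ⟨_, inferInstance, inferInstance, π, fun s => ⟨Ideal.Quotient.mk K (X s), by rw [hπmk]; simp [π₀]⟩, ?_,
    fun A _ _ I hI a => ?_⟩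
  · have hker : RingHom.ker π.toRingHom = J.map (Ideal.Quotient.mk K) := by
      refine le_antisymm (fun z hz => ?_) (Ideal.map_le_iff_le_comap.mpr fun x hx => hx)
      obtain ⟨x, rfl⟩ := Ideal.Quotient.mk_surjective z
      exact Ideal.mem_map_of_mem _ hz
    rw [hker, ← Ideal.map_pow, Ideal.map_eq_bot_iff_le_ker, Ideal.mk_ker]
    exact le_sup_left
  obtain ⟨g, hg⟩ : ∃ g : S → A, ∀ s, Ideal.Quotient.mk I (g s) = a s :=
    ⟨fun s => (Ideal.Quotient.mk_surjective (a s)).choose, fun s => (Ideal.Quotient.mk_surjective (a s)).choose_spec⟩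
  have hgI : ∀ (h : S → A), (∀ s, Ideal.Quotient.mk I (h s) = a s) → ∀ f,
      Ideal.Quotient.mk I (aeval h f) = a (π₀ f) := by
    intro h hh f
    induction f using MvPolynomial.induction_on with
    | C r => simp [π₀, AlgHom.commutes]
    | add p q hp hq => rw [map_add, map_add, map_add, map_add, hp, hq]
    | mul_X p s hp => rw [map_mul, map_mul, map_mul, map_mul, hp, aeval_X, hh]; simp [π₀]
  have hφJ : ∀ x ∈ J, aeval g x ∈ I := fun x hx => by
    rw [← Ideal.Quotient.eq_zero_iff_mem, hgI g hg, show π₀ x = 0 from hx, map_zero]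
  have hshift : ∀ c : S → A, (∀ s, c s ∈ I) → ∀ s,
      aeval (fun t => g t + c t) (e s) = aeval g (e s) + c s := by
    intro c hc s
    letI : Algebra (MvPolynomial S R) A := (aeval g).toRingHom.toAlgebra
    haveI : IsScalarTower R (MvPolynomial S R) A := IsScalarTower.of_algebraMap_eq fun r => ((aeval g).commutes r).symm
    have hd := aeval_add_eq (R := R) I hI g c hc
    let L := (mkDerivation R c).liftKaehlerDifferential
    have hLI : ∀ ω, L ω ∈ I := by
      intro ω
      have hω : ω ∈ Submodule.span (MvPolynomial S R) (Set.range (KaehlerDifferential.D R (MvPolynomial S R))) := by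
        rw [KaehlerDifferential.span_range_derivation]; trivial
      induction hω using Submodule.span_induction with
      | mem z hz => obtain ⟨f, rfl⟩ := hz; rw [Derivation.liftKaehlerDifferential_comp_D]; exact (hd f).1
      | zero => simp
      | add z w _ _ hz hw => rw [map_add]; exact I.add_mem hz hw
      | smul r z _ hz => rw [map_smul, Algebra.smul_def]; exact I.mul_mem_left _ hz
    have hzero : ∀ ω : Ω[MvPolynomial S R⁄R], (1 : S) ⊗ₜ[MvPolynomial S R] ω = 0 → L ω = 0 := by
      intro ω hω
      let q : MvPolynomial S R →ₗ[MvPolynomial S R] S := Algebra.linearMap _ S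
      have hexq : Function.Exact (LinearMap.ker q).subtype q := LinearMap.exact_subtype_ker_map q
      have h0 : q.rTensor (Ω[MvPolynomial S R⁄R]) (1 ⊗ₜ ω) = 0 := by
        rw [LinearMap.rTensor_tmul]; simpa [q] using hω
      obtain ⟨t, ht⟩ := ((rTensor_exact _ hexq hsurj) _).mp h0
      have ht' : TensorProduct.lid _ _ ((LinearMap.ker q).subtype.rTensor _ t) = ω := by simp [ht]
      rw [← ht']
      clear ht ht'
      induction t using TensorProduct.induction_on with
      | zero => simp
      | tmul j w =>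
        simp only [LinearMap.rTensor_tmul, TensorProduct.lid_tmul, map_smul]
        have h1 : aeval g (j : MvPolynomial S R) * L w ∈ I * I :=
          Ideal.mul_mem_mul (hφJ _ (LinearMap.mem_ker.mp j.2)) (hLI w)
        rw [← pow_two, hI] at h1
        exact h1
      | add u v hu hv => simp only [map_add, hu, hv, add_zero]
    have h2 := hzero (KaehlerDifferential.D R _ (e s) - KaehlerDifferential.D R _ (X s))
      (by rw [TensorProduct.tmul_sub, hDe, sub_self])
    rw [map_sub, Derivation.liftKaehlerDifferential_comp_D, Derivation.liftKaehlerDifferential_comp_D,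
      mkDerivation_X, sub_eq_zero] at h2
    rw [(hd (e s)).2, h2]
  let g' : S → A := fun s => g s + -aeval g (e s)
  have hg' : ∀ s, Ideal.Quotient.mk I (g' s) = a s := fun s => by
    simp [g', map_add, hg, Ideal.Quotient.eq_zero_iff_mem.mpr (hφJ _ (he s))]
  have hkill : ∀ x ∈ K, aeval g' x = 0 := by
    intro x hx
    have hle : K ≤ RingHom.ker (aeval (R := R) g').toRingHom := by
      refine sup_le (Ideal.map_eq_bot_iff_le_ker _ |>.mp ?_) (Ideal.span_le.mpr ?_)
      · rw [Ideal.map_pow, eq_bot_iff, ← hI]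
        refine Ideal.pow_right_mono (Ideal.map_le_iff_le_comap.mpr fun y hy => ?_) 2
        rw [Ideal.mem_comap, ← Ideal.Quotient.eq_zero_iff_mem]
        exact (hgI g' hg' y).trans (by rw [show π₀ y = 0 from hy, map_zero])
      · rintro _ ⟨s, rfl⟩
        change aeval (fun t => g t + -aeval g (e t)) (e s) = 0
        rw [hshift (fun t => -aeval g (e t)) (fun t => I.neg_mem (hφJ _ (he t))) s, add_neg_cancel]
    exact hle hx
  refine ⟨Ideal.Quotient.liftₐ K (aeval g') hkill, AlgHom.ext fun z => ?_, fun ψ hψ => ?_⟩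
  · obtain ⟨x, rfl⟩ := Ideal.Quotient.mk_surjective z
    exact hgI g' hg' x
  refine Ideal.Quotient.algHom_ext _ (MvPolynomial.algHom_ext fun s => ?_)
  let c : S → A := fun t => ψ (Ideal.Quotient.mk K (X t)) - g t
  have hc : ∀ t, c t ∈ I := fun t => by
    rw [← Ideal.Quotient.eq_zero_iff_mem, map_sub, hg, sub_eq_zero]
    have h := congrArg (fun h => h (Ideal.Quotient.mk K (X t))) hψ
    simpa [hπmk, π₀] using h
  have hagree : ψ.comp (Ideal.Quotient.mkₐ R K) = aeval fun t => g t + c t :=
    MvPolynomial.algHom_ext fun t => by simp [c]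
  have h0 : aeval (fun t => g t + c t) (e s) = 0 := by
    rw [← hagree]
    change ψ (Ideal.Quotient.mk K (e s)) = 0
    rw [Ideal.Quotient.eq_zero_iff_mem.mpr (Ideal.mem_sup_right (Ideal.subset_span (Set.mem_range_self s))), map_zero]
  rw [hshift c hc s] at h0
  change ψ (Ideal.Quotient.mk K (X s)) = aeval g' (X s)
  rw [aeval_X]
  simp only [g', c] at h0 ⊢
  linear_combination h0

end Groth.Agent.OmegaThick
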