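/-
Universal first order thickenings: differentials and localization.
-/
import Groth.Prelude.Def_Omega3
import Mathlib

universe u

namespace Groth.Agent.OmegaThick

open TensorProduct

section square_zero

variable {B' B : Type u} [CommRing B'] [CommRing B] [Algebra B' B]

theorem ker_tmul_one (hs : Function.Surjective (algebraMap B' B)) {M : Type u} [AddCommGroup M] [Module B' M]
    {m : M} (hm : (1 : B) ⊗ₜ[B'] m = 0) : m ∈ RingHom.ker (algebraMap B' B) • (⊤ : Submodule B' M) := by
  let q : B' →ₗ[B'] B := Algebra.linearMap _ B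
  have hexq : Function.Exact (LinearMap.ker q).subtype q := LinearMap.exact_subtype_ker_map q
  have h0 : q.rTensor M (1 ⊗ₜ m) = 0 := by
    rw [LinearMap.rTensor_tmul]; simpa [q] using hm
  obtain ⟨t, ht⟩ := ((rTensor_exact _ hexq hs) _).mp h0
  have ht' : TensorProduct.lid _ _ ((LinearMap.ker q).subtype.rTensor _ t) = m := by simp [ht]
  rw [← ht']
  clear ht ht'
  induction t using TensorProduct.induction_on with
  | zero => simp
  | tmul j w =>
    simp only [LinearMap.rTensor_tmul, TensorProduct.lid_tmul]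
    exact Submodule.smul_mem_smul (LinearMap.mem_ker.mp j.2 : (j : B') ∈ RingHom.ker (algebraMap B' B)) trivial
  | add u v hu hv => simp only [map_add]; exact add_mem hu hv

end square_zero

theorem formallyUnramified_of_univ (A : Type u) [CommRing A] (B : Type u) [CommRing B] [Algebra A B]
    (B' : Type u) [CommRing B'] [Algebra A B'] [Algebra B' B] [IsScalarTower A B' B]
    (h : OmegaSh.IsUnivThickeningRing A B B' (IsScalarTower.toAlgHom A B' B)) :
    Algebra.FormallyUnramified A B' := by
  obtain ⟨hs, hsq, huniv⟩ := h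
  let Q := B ⊗[B'] Ω[B'⁄A]
  let E := TrivSqZeroExt B Q
  let d : B' → Q := fun b => (1 : B) ⊗ₜ KaehlerDifferential.D A B' b
  let v₂ : B' →ₐ[A] E :=
    { toFun := fun b => (⟨algebraMap B' B b, d b⟩ : E)
      map_one' := TrivSqZeroExt.ext (map_one _) (by change d 1 = 0; simp [d])
      map_mul' := fun x y => TrivSqZeroExt.ext (map_mul _ _ _) (by
        change d (x * y) = algebraMap B' B x • d y + MulOpposite.op (algebraMap B' B y) • d x
        rw [op_smul_eq_smul]
        simp only [d, Derivation.leibniz, tmul_add, tmul_smul, algebraMap_smul])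
      map_zero' := TrivSqZeroExt.ext (map_zero _) (by change d 0 = 0; simp [d])
      map_add' := fun x y => TrivSqZeroExt.ext (map_add _ _ _) (by
        change d (x + y) = d x + d y
        simp [d, tmul_add])
      commutes' := fun a => TrivSqZeroExt.ext (IsScalarTower.algebraMap_apply A B' B a).symm (by
        change d (algebraMap A B' a) = _
        simp [d]
        rfl) }
  let v₁ : B' →ₐ[A] E := (TrivSqZeroExt.inlAlgHom A B Q).comp (IsScalarTower.toAlgHom A B' B)
  let I : Ideal E := RingHom.ker (TrivSqZeroExt.fstHom A B Q).toRingHom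
  have hI : I ^ 2 = ⊥ := by
    rw [pow_two, eq_bot_iff, Ideal.mul_le]
    intro x hx y hy
    have hx' : x.fst = 0 := hx
    have hy' : y.fst = 0 := hy
    refine TrivSqZeroExt.ext ?_ ?_
    · change x.fst * y.fst = 0
      rw [hx', zero_mul]
    · change x.fst • y.snd + MulOpposite.op y.fst • x.snd = 0
      rw [hx', hy', op_smul_eq_smul, zero_smul, zero_smul, add_zero]
  have hu := (huniv E I hI ((Ideal.Quotient.mkₐ A I).comp (TrivSqZeroExt.inlAlgHom A B Q))).unique
    (y₁ := v₁) (y₂ := v₂) rfl (AlgHom.ext fun b => by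
      change Ideal.Quotient.mk I (v₂ b) = Ideal.Quotient.mk I _
      rw [Ideal.Quotient.mk_eq_mk_iff_sub_mem, RingHom.mem_ker, map_sub, sub_eq_zero]
      rfl)
  have hd : ∀ b, d b = 0 := fun b =>
    (congrArg TrivSqZeroExt.snd (congrArg (fun f : B' →ₐ[A] E => f b) hu)).symm
  let N : Ideal B' := RingHom.ker (algebraMap B' B)
  have htop : (⊤ : Submodule B' (Ω[B'⁄A])) ≤ N • ⊤ := by
    refine (KaehlerDifferential.span_range_derivation A B').ge.trans ?_
    rw [Submodule.span_le]
    rintro _ ⟨b, rfl⟩
    exact ker_tmul_one hs (hd b)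
  have h0 : (⊤ : Submodule B' (Ω[B'⁄A])) ≤ ⊥ := by
    have h2 := htop.trans (Submodule.smul_mono le_rfl htop)
    rw [← Submodule.smul_assoc, smul_eq_mul, ← pow_two] at h2
    have hN : N ^ 2 = ⊥ := hsq
    rw [hN, Submodule.bot_smul] at h2
    exact h2
  exact ⟨⟨fun x y => (Submodule.mem_bot B').mp (h0 trivial) |>.trans ((Submodule.mem_bot B').mp (h0 trivial)).symm⟩⟩

theorem bijective_baseChange_of_univ (R : Type u) [CommRing R] (A : Type u) [CommRing A] [Algebra R A]
    (B : Type u) [CommRing B] [Algebra A B] (B' : Type u) [CommRing B'] [Algebra A B'] [Algebra R B']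
    [IsScalarTower R A B'] [Algebra B' B] [IsScalarTower A B' B]
    (h : OmegaSh.IsUnivThickeningRing A B B' (IsScalarTower.toAlgHom A B' B)) :
    Function.Bijective ((KaehlerDifferential.mapBaseChange R A B').baseChange B) := by
  haveI hFU := formallyUnramified_of_univ A B B' h
  obtain ⟨hs, hsq, huniv⟩ := h
  refine ⟨?_, LinearMap.baseChange_surjective B fun x =>
    ((KaehlerDifferential.exact_mapBaseChange_map R A B') x).mp (Subsingleton.elim _ _)⟩
  let M := B ⊗[A] Ω[A⁄R]
  let E := TrivSqZeroExt B M
  let f : A →+* E :=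
    { toFun := fun a => (⟨algebraMap A B a, (1 : B) ⊗ₜ KaehlerDifferential.D R A a⟩ : E)
      map_one' := TrivSqZeroExt.ext (map_one _) (by
        change (1 : B) ⊗ₜ[A] KaehlerDifferential.D R A 1 = 0
        simp)
      map_mul' := fun x y => TrivSqZeroExt.ext (map_mul _ _ _) (by
        change (1 : B) ⊗ₜ[A] KaehlerDifferential.D R A (x * y) = algebraMap A B x • ((1 : B) ⊗ₜ[A] KaehlerDifferential.D R A y) +
          MulOpposite.op (algebraMap A B y) • ((1 : B) ⊗ₜ[A] KaehlerDifferential.D R A x)
        rw [op_smul_eq_smul]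
        simp only [Derivation.leibniz, tmul_add, tmul_smul, algebraMap_smul])
      map_zero' := TrivSqZeroExt.ext (map_zero _) (by
        change (1 : B) ⊗ₜ[A] KaehlerDifferential.D R A 0 = 0
        simp)
      map_add' := fun x y => TrivSqZeroExt.ext (map_add _ _ _) (by
        change (1 : B) ⊗ₜ[A] KaehlerDifferential.D R A (x + y) =
          (1 : B) ⊗ₜ[A] KaehlerDifferential.D R A x + (1 : B) ⊗ₜ[A] KaehlerDifferential.D R A y
        simp [tmul_add]) }
  letI : Algebra A E := f.toAlgebra
  let fst : E →+* B :=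
    { toFun := TrivSqZeroExt.fst
      map_one' := rfl, map_mul' := fun _ _ => rfl, map_zero' := rfl, map_add' := fun _ _ => rfl }
  let I : Ideal E := RingHom.ker fst
  have hI : I ^ 2 = ⊥ := by
    rw [pow_two, eq_bot_iff, Ideal.mul_le]
    intro x hx y hy
    have hx' : x.fst = 0 := hx
    have hy' : y.fst = 0 := hy
    refine TrivSqZeroExt.ext ?_ ?_
    · change x.fst * y.fst = 0
      rw [hx', zero_mul]
    · change x.fst • y.snd + MulOpposite.op y.fst • x.snd = 0
      rw [hx', hy', op_smul_eq_smul, zero_smul, zero_smul, add_zero]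
  let a₀ : B →ₐ[A] E ⧸ I :=
    { (Ideal.Quotient.mk I).comp (TrivSqZeroExt.inlHom B M) with
      commutes' := fun a => by
        change Ideal.Quotient.mk I (TrivSqZeroExt.inl (algebraMap A B a)) = Ideal.Quotient.mk I (f a)
        rw [Ideal.Quotient.mk_eq_mk_iff_sub_mem, RingHom.mem_ker, map_sub, sub_eq_zero]
        rfl }
  obtain ⟨v, hv, -⟩ := huniv E I hI a₀
  have hfst : ∀ x, (v x).fst = algebraMap B' B x := fun x => by
    have h1 : Ideal.Quotient.mk I (v x) = Ideal.Quotient.mk I (TrivSqZeroExt.inl (algebraMap B' B x)) :=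
      congrArg (fun g : B' →ₐ[A] E ⧸ I => g x) hv
    rw [Ideal.Quotient.mk_eq_mk_iff_sub_mem, RingHom.mem_ker, map_sub, sub_eq_zero] at h1
    exact h1
  have hA : ∀ a, (v (algebraMap A B' a)).snd = (1 : B) ⊗ₜ[A] KaehlerDifferential.D R A a := fun a => by
    rw [v.commutes]; rfl
  have hmul : ∀ x y, (v (x * y)).snd = x • (v y).snd + y • (v x).snd := fun x y => by
    rw [map_mul]
    change (v x).fst • (v y).snd + MulOpposite.op (v y).fst • (v x).snd = _
    rw [op_smul_eq_smul, hfst, hfst, algebraMap_smul, algebraMap_smul]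
  letI : Algebra R B := ((algebraMap A B).comp (algebraMap R A)).toAlgebra
  haveI : IsScalarTower R A B := IsScalarTower.of_algebraMap_eq fun _ => rfl
  let dl : B' →ₗ[R] M :=
    { toFun := fun x => (v x).snd
      map_add' := fun x y => by rw [map_add]; rfl
      map_smul' := fun r x => by
        rw [RingHom.id_apply, Algebra.smul_def, IsScalarTower.algebraMap_apply R A B', hmul, hA,
          Derivation.map_algebraMap, tmul_zero, smul_zero, add_zero, algebraMap_smul, algebraMap_smul] }
  haveI : IsScalarTower R B' M := IsScalarTower.of_algebraMap_smul fun r m => by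
    rw [IsScalarTower.algebraMap_apply R A B', algebraMap_smul, algebraMap_smul]
  let d : Derivation R B' M := Derivation.mk' dl fun x y => hmul x y
  let Ψ : B ⊗[B'] Ω[B'⁄R] →ₗ[B] M := d.liftKaehlerDifferential.liftBaseChange B
  let κ := TensorProduct.AlgebraTensorModule.cancelBaseChange A B' B B (Ω[A⁄R])
  have hcomp : ∀ z, Ψ ((KaehlerDifferential.mapBaseChange R A B').baseChange B z) = κ z := by
    intro z
    induction z using TensorProduct.induction_on with
    | zero => simp
    | add u v hu hv => simp only [map_add, hu, hv]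
    | tmul x w =>
      induction w using TensorProduct.induction_on with
      | zero => simp
      | add u v hu hv => simp only [tmul_add, map_add, hu, hv]
      | tmul y ω =>
        have hω : ω ∈ Submodule.span A (Set.range (KaehlerDifferential.D R A)) := by
          rw [KaehlerDifferential.span_range_derivation]; trivial
        induction hω using Submodule.span_induction with
        | mem o ho =>
          obtain ⟨a, rfl⟩ := ho
          simp only [Ψ, κ, LinearMap.baseChange_tmul, LinearMap.liftBaseChange_tmul,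
            KaehlerDifferential.mapBaseChange_tmul, KaehlerDifferential.map_D, map_smul,
            Derivation.liftKaehlerDifferential_comp_D, AlgebraTensorModule.cancelBaseChange_tmul]
          change x • y • (v (algebraMap A B' a)).snd = _
          rw [hA, ← algebraMap_smul B y, ← mul_smul, TensorProduct.smul_tmul', smul_eq_mul, mul_one,
            Algebra.smul_def, mul_comm]
        | zero => simp
        | add o o' _ _ ho ho' => simp only [tmul_add, map_add, ho, ho']
        | smul c o _ ho =>
          rw [← smul_tmul, ← algebraMap_smul B' c y]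
          simp only [tmul_smul, ← smul_tmul', map_smul] at ho ⊢
          rw [← algebraMap_smul B, ← algebraMap_smul B]
          simp only [map_smul, ho]
  intro z z' h
  exact κ.injective (by rw [← hcomp, ← hcomp, h])

theorem univ_of_localization (A B B' : Type u) [CommRing A] [CommRing B] [CommRing B'] [Algebra A B]
    [Algebra A B'] (π : B' →ₐ[A] B) (hπ : OmegaSh.IsUnivThickeningRing A B B' π)
    (S : Submonoid B) (S' : Submonoid B') (hS' : ∀ s ∈ S', π s ∈ S) (hS : ∀ s ∈ S, ∃ s' ∈ S', π s' = s)
    (BS B'S : Type u) [CommRing BS] [CommRing B'S] [Algebra B BS] [IsLocalization S BS]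
    [Algebra B' B'S] [IsLocalization S' B'S]
    [Algebra A BS] [IsScalarTower A B BS] [Algebra A B'S] [IsScalarTower A B' B'S]
    (πS : B'S →ₐ[A] BS) (hπS : ∀ x : B', πS (algebraMap B' B'S x) = algebraMap B BS (π x)) :
    OmegaSh.IsUnivThickeningRing A BS B'S πS := by
  obtain ⟨hs, hsq, huniv⟩ := hπ
  refine ⟨fun y => ?_, ?_, fun C _ _ I hI a => ?_⟩
  · obtain ⟨⟨b, s⟩, hy⟩ := IsLocalization.surj S y
    obtain ⟨b', rfl⟩ := hs b
    obtain ⟨s', hs', hss⟩ := hS s s.2
    refine ⟨IsLocalization.mk' B'S b' ⟨s', hs'⟩, ?_⟩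
    refine (IsLocalization.map_units BS s).mul_right_cancel ?_
    simp only at hy
    rw [hy, ← hss, ← hπS s', ← hπS b', ← map_mul, IsLocalization.mk'_spec B'S b' ⟨s', hs'⟩]
  · rw [pow_two, eq_bot_iff, Ideal.mul_le]
    have key : ∀ z ∈ RingHom.ker πS.toRingHom, ∃ n ∈ RingHom.ker π.toRingHom, ∃ w : B'S,
        z = algebraMap B' B'S n * w := by
      intro z hz
      obtain ⟨⟨b', s'⟩, hzz⟩ := IsLocalization.surj S' z
      have h0 : algebraMap B BS (π b') = algebraMap B BS 0 := by
        rw [map_zero, ← hπS, ← hzz, map_mul, show πS z = 0 from hz, zero_mul]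
      obtain ⟨t, ht⟩ := IsLocalization.exists_of_eq (M := S) h0
      obtain ⟨t', ht', htt⟩ := hS t t.2
      refine ⟨t' * b', ?_, IsLocalization.mk' B'S 1 (s' * ⟨t', ht'⟩ : S'), ?_⟩
      · change π (t' * b') = 0
        rw [map_mul, htt, ht, mul_zero]
      · rw [← IsLocalization.mk'_eq_mul_mk'_one]
        refine (IsLocalization.eq_mk'_iff_mul_eq).mpr ?_
        rw [Submonoid.coe_mul, map_mul, ← mul_assoc, hzz, ← map_mul, mul_comm]
    intro z hz z' hz'
    obtain ⟨n, hn, w, rfl⟩ := key z hz
    obtain ⟨n', hn', w', rfl⟩ := key z' hz'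
    have h1 : n * n' ∈ RingHom.ker π.toRingHom ^ 2 := by rw [pow_two]; exact Ideal.mul_mem_mul hn hn'
    rw [hsq, Ideal.mem_bot] at h1
    rw [Ideal.mem_bot, mul_mul_mul_comm, ← map_mul, h1, map_zero, zero_mul]
  · obtain ⟨v, hv, huniq⟩ := huniv C I hI (a.comp (IsScalarTower.toAlgHom A B BS))
    have hv' : ∀ x, Ideal.Quotient.mk I (v x) = a (algebraMap B BS (π x)) := fun x =>
      congrArg (fun g : B' →ₐ[A] C ⧸ I => g x) hv
    have hu : ∀ s : S', IsUnit (v s) := fun s => by
      rw [← IsNilpotent.isUnit_quotient_mk_iff (I := I) ⟨2, hI⟩, hv']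
      exact (IsLocalization.map_units BS (⟨π s, hS' s s.2⟩ : S)).map a
    refine ⟨IsLocalization.liftAlgHom hu, ?_, fun g hg => ?_⟩
    · refine IsLocalization.algHom_ext S' (AlgHom.ext fun x => ?_)
      change Ideal.Quotient.mk I (IsLocalization.liftAlgHom hu (algebraMap B' B'S x)) = a (πS (algebraMap B' B'S x))
      rw [IsLocalization.coe_liftAlgHom, IsLocalization.lift_eq, hπS]
      exact hv' x
    · refine IsLocalization.algHom_ext S' (AlgHom.ext fun x => ?_)
      have := huniq (g.comp (IsScalarTower.toAlgHom A B' B'S)) (AlgHom.ext fun y => by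
        change Ideal.Quotient.mk I (g (algebraMap B' B'S y)) = a (algebraMap B BS (π y))
        rw [← hπS]
        exact congrArg (fun h : B'S →ₐ[A] C ⧸ I => h (algebraMap B' B'S y)) hg)
      change g (algebraMap B' B'S x) = IsLocalization.liftAlgHom hu (algebraMap B' B'S x)
      rw [IsLocalization.coe_liftAlgHom, IsLocalization.lift_eq]
      exact congrArg (fun h : B' →ₐ[A] C => h x) this

theorem univ_of_base (A AS BS B'S : Type u) [CommRing A] [CommRing AS] [CommRing BS] [CommRing B'S]
    [Algebra A AS] (S : Submonoid A) [IsLocalization S AS]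
    [Algebra AS BS] [Algebra A BS] [IsScalarTower A AS BS]
    [Algebra AS B'S] [Algebra A B'S] [IsScalarTower A AS B'S]
    (πS : B'S →ₐ[AS] BS) (h : OmegaSh.IsUnivThickeningRing A BS B'S (πS.restrictScalars A)) :
    OmegaSh.IsUnivThickeningRing AS BS B'S πS := by
  obtain ⟨hs, hsq, huniv⟩ := h
  refine ⟨hs, hsq, fun C _ _ I hI a => ?_⟩
  letI : Algebra A C := ((algebraMap AS C).comp (algebraMap A AS)).toAlgebra
  haveI : IsScalarTower A AS C := IsScalarTower.of_algebraMap_eq fun _ => rfl
  obtain ⟨v, hv, huniq⟩ := huniv C I hI (a.restrictScalars A)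
  have hc : ∀ r : AS, v (algebraMap AS B'S r) = algebraMap AS C r := by
    intro r
    refine congrArg (fun g : AS →+* C => g r) (IsLocalization.ringHom_ext S
      (j := v.toRingHom.comp (algebraMap AS B'S)) (k := algebraMap AS C) (RingHom.ext fun x => ?_))
    change v (algebraMap AS B'S (algebraMap A AS x)) = algebraMap AS C (algebraMap A AS x)
    rw [← IsScalarTower.algebraMap_apply A AS B'S, v.commutes, IsScalarTower.algebraMap_apply A AS C]
  refine ⟨{ v with commutes' := hc }, ?_, fun g hg => ?_⟩
  · exact AlgHom.ext fun x => congrArg (fun h : B'S →ₐ[A] C ⧸ I => h x) hv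
  · have := huniq (g.restrictScalars A) (AlgHom.ext fun x => congrArg (fun h : B'S →ₐ[AS] C ⧸ I => h x) hg)
    exact AlgHom.ext fun x => congrArg (fun h : B'S →ₐ[A] C => h x) this

end Groth.Agent.OmegaThick
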