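/-
Universal first order thickenings of schemes: basic properties, restriction, gluing of lifts.
-/
import Groth.Prelude.Def_Omega3
import Groth.Agent.ThickSys.Sheaf
import Groth.Agent.ThickProp.Square
import Mathlib

set_option autoImplicit false
set_option backward.isDefEq.respectTransparency false
set_option linter.style.haveILetI false

universe u

open AlgebraicGeometry CategoryTheory CategoryTheory.Limits TopologicalSpace

namespace Groth.Agent.OmegaThick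

variable {X Z Z' T T' : Scheme.{u}}

/-- first order thickening, abbreviation -/
abbrev Fot (i : T ⟶ T') : Prop := MoreMor.IsFirstOrderThickening i

theorem Fot.isClosedImmersion {i : T ⟶ T'} (hi : Fot i) : IsClosedImmersion i := hi.1.1

theorem Fot.surjective {i : T ⟶ T'} (hi : Fot i) : Surjective i := hi.1.2

theorem Fot.injective {i : T ⟶ T'} (hi : Fot i) : Function.Injective i :=
  have := hi.isClosedImmersion
  i.isClosedEmbedding.injective

theorem Fot.ker_sq {i : T ⟶ T'} (hi : Fot i) (U : T'.affineOpens) :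
    RingHom.ker (i.app U.1).hom ^ 2 = ⊥ := by
  have := hi.isClosedImmersion
  rw [← Scheme.Hom.ker_apply i U, pow_two, ← Pi.mul_apply, ← Scheme.IdealSheafData.ideal_mul, hi.2,
    Scheme.IdealSheafData.ideal_bot, Pi.bot_apply]

theorem fot_of_ker_sq (i : T ⟶ T') [IsClosedImmersion i] [Surjective i]
    (h : ∀ x : T', ∃ U : T'.affineOpens, x ∈ U.1 ∧ RingHom.ker (i.app U.1).hom ^ 2 = ⊥) : Fot i := by
  refine ⟨⟨inferInstance, inferInstance⟩, ?_⟩
  choose U hxU hU using h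
  refine Scheme.IdealSheafData.ext_of_iSup_eq_top U
    (top_le_iff.mp fun x _ => Opens.mem_iSup.mpr ⟨x, hxU x⟩) fun x => ?_
  rw [Scheme.IdealSheafData.ideal_mul, Pi.mul_apply, Scheme.Hom.ker_apply, ← pow_two, hU,
    Scheme.IdealSheafData.ideal_bot, Pi.bot_apply]

theorem fot_of_isPullback {P P' : Scheme.{u}} {i : T ⟶ T'} (hi : Fot i) {iP : P ⟶ P'} {f : P ⟶ T}
    {f' : P' ⟶ T'} (hc : IsPullback iP f f' i) : Fot iP := by
  have := hi.isClosedImmersion
  have := hi.surjective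
  refine ⟨⟨ThickProp.isClosedImmersion_left hc, ThickProp.surjective_left hc⟩, ?_⟩
  rw [ThickProp.ker_eq_comap hc, ← BlowUpLib.comap_mul, hi.2, Scheme.IdealSheafData.comap_bot]

theorem fot_snd {P' : Scheme.{u}} {i : T ⟶ T'} (hi : Fot i) (r : P' ⟶ T') : Fot (pullback.snd i r) :=
  fot_of_isPullback hi (IsPullback.of_hasPullback i r).flip

theorem fot_of_comp_closed {P : Scheme.{u}} {l : T ⟶ P} {s : P ⟶ T'} [IsClosedImmersion s]
    (hi : Fot (l ≫ s)) : Fot l := by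
  have := hi.isClosedImmersion
  have := hi.surjective
  have hl : IsClosedImmersion l := IsClosedImmersion.of_comp l s
  have : Surjective l := ⟨fun p => by
    obtain ⟨t, ht⟩ := (l ≫ s).surjective (s p)
    exact ⟨t, s.isClosedEmbedding.injective (by rw [← ht]; rfl)⟩⟩
  refine fot_of_ker_sq l fun x => ?_
  obtain ⟨U, hU, hxU, -⟩ := exists_isAffineOpen_mem_and_subset (X := T') (x := s x) (U := ⊤) trivial
  refine ⟨⟨s ⁻¹ᵁ U, hU.preimage s⟩, hxU, ?_⟩
  have h1 := hi.ker_sq ⟨U, hU⟩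
  have h2 : ((l ≫ s).app U).hom = (l.app (s ⁻¹ᵁ U)).hom.comp (s.app U).hom := by
    rw [Scheme.Hom.comp_app]; rfl
  rw [h2, ← RingHom.comap_ker] at h1
  rw [pow_two, eq_bot_iff, Ideal.mul_le]
  intro a ha b hb
  obtain ⟨a, rfl⟩ := s.app_surjective U hU a
  obtain ⟨b, rfl⟩ := s.app_surjective U hU b
  have h3 : a * b ∈ (RingHom.ker (l.app (s ⁻¹ᵁ U)).hom).comap (s.app U).hom ^ 2 := by
    rw [pow_two]; exact Ideal.mul_mem_mul ha hb
  rw [h1, Ideal.mem_bot] at h3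
  rw [Ideal.mem_bot, ← map_mul, h3, map_zero]

/-- the data of a lifting problem and its solution, restricted along `r` -/
def Lifts (i : Z ⟶ Z') (h' : Z' ⟶ X) (j : T ⟶ T') (b : T' ⟶ X) (a : T ⟶ Z) {P : Scheme.{u}} (r : P ⟶ T')
    (a' : P ⟶ Z') : Prop :=
  pullback.snd j r ≫ a' = pullback.fst j r ≫ a ≫ i ∧ a' ≫ h' = r ≫ b

section glue

variable {i : Z ⟶ Z'} {h' : Z' ⟶ X} {j : T ⟶ T'} {b : T' ⟶ X} {a : T ⟶ Z}

theorem Lifts.precomp {P P₁ : Scheme.{u}} {r : P ⟶ T'} {a' : P ⟶ Z'} (h : Lifts i h' j b a r a')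
    (c : P₁ ⟶ P) : Lifts i h' j b a (c ≫ r) (c ≫ a') := by
  let φ : pullback j (c ≫ r) ⟶ pullback j r :=
    pullback.lift (pullback.fst _ _) (pullback.snd _ _ ≫ c) (by rw [pullback.condition, Category.assoc])
  refine ⟨?_, by rw [Category.assoc, h.2, Category.assoc]⟩
  rw [← Category.assoc, ← pullback.lift_snd (pullback.fst j (c ≫ r)) (pullback.snd j (c ≫ r) ≫ c)
    (by rw [pullback.condition, Category.assoc]), Category.assoc, h.1, pullback.lift_fst_assoc]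

theorem lifts_id_iff {a' : T' ⟶ Z'} :
    Lifts i h' j b a (𝟙 T') a' ↔ j ≫ a' = a ≫ i ∧ a' ≫ h' = b := by
  have e : pullback.snd j (𝟙 T') = pullback.fst j (𝟙 T') ≫ j := by
    rw [pullback.condition, Category.comp_id]
  simp only [Lifts, e, Category.assoc, Category.id_comp]
  rw [cancel_epi]

/-- lifts glue -/
theorem existsUnique_of_local
    (hu : ∀ (P : Scheme.{u}) (r : P ⟶ T') [IsOpenImmersion r] (a₁ a₂ : P ⟶ Z'),
      Lifts i h' j b a r a₁ → Lifts i h' j b a r a₂ → a₁ = a₂)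
    (he : ∀ x : T', ∃ (P : Scheme.{u}) (r : P ⟶ T') (_ : IsOpenImmersion r),
      x ∈ Set.range r ∧ ∃ a', Lifts i h' j b a r a') :
    ∃! a' : T' ⟶ Z', j ≫ a' = a ≫ i ∧ a' ≫ h' = b := by
  choose P r hr hx a' ha' using he
  let 𝒰 : T'.OpenCover := Scheme.Cover.mkOfCovers T' P r (fun x => ⟨x, hx x⟩) hr
  have hagree : ∀ x y, pullback.fst (r x) (r y) ≫ a' x = pullback.snd (r x) (r y) ≫ a' y := fun x y => by
    have := hr x; have := hr y
    have h2 := (ha' y).precomp (pullback.snd (r x) (r y))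
    rw [← pullback.condition] at h2
    exact hu _ _ _ _ ((ha' x).precomp (pullback.fst (r x) (r y))) h2
  let L := 𝒰.glueMorphisms a' hagree
  have hL : ∀ x, r x ≫ L = a' x := fun x => 𝒰.ι_glueMorphisms a' hagree x
  refine ⟨L, ⟨?_, ?_⟩, fun L' hL' => ?_⟩
  · refine Scheme.Cover.hom_ext (𝒰.pullback₁ j) _ _ fun x => ?_
    change pullback.fst j (r x) ≫ j ≫ L = pullback.fst j (r x) ≫ a ≫ i
    rw [pullback.condition_assoc, hL]
    exact (ha' x).1
  · refine Scheme.Cover.hom_ext 𝒰 _ _ fun x => ?_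
    change r x ≫ L ≫ h' = r x ≫ b
    rw [← Category.assoc, hL]
    exact (ha' x).2
  · refine Scheme.Cover.hom_ext 𝒰 _ _ fun x => ?_
    change r x ≫ L' = r x ≫ L
    have := hr x
    refine hu _ _ _ _ ?_ (by rw [hL]; exact ha' x)
    simpa using (lifts_id_iff.mpr hL').precomp (r x)

/-- uniqueness is local on the source of the lift -/
theorem unique_of_cover {P : Scheme.{u}} (r : P ⟶ T') [IsOpenImmersion r] {a₁ a₂ : P ⟶ Z'}
    (h₁ : Lifts i h' j b a r a₁) (h₂ : Lifts i h' j b a r a₂)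
    (H : ∀ x : P, ∃ (W : Scheme.{u}) (c : W ⟶ P) (_ : IsOpenImmersion c), x ∈ Set.range c ∧
      ∀ c₁ c₂ : W ⟶ Z', Lifts i h' j b a (c ≫ r) c₁ → Lifts i h' j b a (c ≫ r) c₂ → c₁ = c₂) :
    a₁ = a₂ := by
  choose W c hc hx hu using H
  exact Scheme.Cover.hom_ext (Scheme.Cover.mkOfCovers P W c (fun x => ⟨x, hx x⟩) hc : P.OpenCover) _ _
    fun x => hu x _ _ (h₁.precomp (c x)) (h₂.precomp (c x))

end glue

theorem Fot.point {i : T ⟶ T'} (hi : Fot i) (x : T') : ∃ t, i t = x :=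
  have := hi.surjective
  i.surjective x

variable {h : Z ⟶ X} {i : Z ⟶ Z'} {h' : Z' ⟶ X}

theorem univ_fot (hu : OmegaSh.IsUnivThickening h i h') : Fot i := hu.1

theorem range_le_of_comp {P Q : Scheme.{u}} {j : T ⟶ T'} (hj : Fot j) (f : T' ⟶ Q) (v : P ⟶ Q)
    (H : ∀ t, f (j t) ∈ Set.range v) : Set.range f ⊆ Set.range v := by
  rintro _ ⟨x, rfl⟩
  obtain ⟨t, rfl⟩ := hj.point x
  exact H t

/-- composing with an open immersion of the base -/
theorem univ_comp_openImmersion (hu : OmegaSh.IsUnivThickening h i h') {X₂ : Scheme.{u}} (v : X ⟶ X₂)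
    [IsOpenImmersion v] : OmegaSh.IsUnivThickening (h ≫ v) i (h' ≫ v) := by
  refine ⟨hu.1, by rw [← Category.assoc, hu.2.1], fun T T' j b a hj hab => ?_⟩
  have hr : Set.range b ⊆ Set.range v := range_le_of_comp hj b v fun t => by
    rw [← Scheme.Hom.comp_apply, hab]; exact ⟨h (a t), rfl⟩
  let b₀ := IsOpenImmersion.lift v b hr
  have hb₀ : b₀ ≫ v = b := IsOpenImmersion.lift_fac _ _ _
  obtain ⟨a', ⟨h1, h2⟩, hun⟩ := hu.2.2 T T' j b₀ a hj (by
    rw [← cancel_mono v, Category.assoc, hb₀, hab, Category.assoc])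
  refine ⟨a', ⟨h1, by rw [← Category.assoc, h2, hb₀]⟩, fun a'' h'' => hun a'' ⟨h''.1, ?_⟩⟩
  rw [← cancel_mono v, Category.assoc, h''.2, hb₀]

/-- cancelling an open immersion of the base -/
theorem univ_of_comp_mono {X₂ : Scheme.{u}} (v : X ⟶ X₂) [Mono v]
    (hu : OmegaSh.IsUnivThickening (h ≫ v) i (h' ≫ v)) : OmegaSh.IsUnivThickening h i h' := by
  refine ⟨hu.1, by rw [← cancel_mono v, Category.assoc, hu.2.1], fun T T' j b a hj hab => ?_⟩
  obtain ⟨a', ⟨h1, h2⟩, hun⟩ := hu.2.2 T T' j (b ≫ v) a hj (by rw [reassoc_of% hab])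
  exact ⟨a', ⟨h1, by rw [← cancel_mono v, Category.assoc, h2]⟩,
    fun a'' h'' => hun a'' ⟨h''.1, by rw [reassoc_of% h''.2]⟩⟩

/-- precomposing with an isomorphism -/
theorem univ_iso_comp (hu : OmegaSh.IsUnivThickening h i h') {Z₀ : Scheme.{u}} (e : Z₀ ⟶ Z) [IsIso e] :
    OmegaSh.IsUnivThickening (e ≫ h) (e ≫ i) h' := by
  refine ⟨fot_of_isPullback hu.1 (f := e) (f' := 𝟙 Z') ?_, by rw [Category.assoc, hu.2.1],
    fun T T' j b a hj hab => ?_⟩
  · exact IsPullback.of_vert_isIso ⟨(Category.comp_id _)⟩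
  · obtain ⟨a', h1, hun⟩ := hu.2.2 T T' j b (a ≫ e) hj (by rw [hab, Category.assoc])
    exact ⟨a', ⟨by rw [h1.1, Category.assoc], h1.2⟩,
      fun a'' h'' => hun a'' ⟨by rw [h''.1, Category.assoc], h''.2⟩⟩

/-- restriction to an open of the thickening -/
theorem univ_restrict (hu : OmegaSh.IsUnivThickening h i h') {Z₀ Z₀' : Scheme.{u}} (v : Z₀ ⟶ Z)
    (v' : Z₀' ⟶ Z') [IsOpenImmersion v] [IsOpenImmersion v'] (i₀ : Z₀ ⟶ Z₀') (w : i₀ ≫ v' = v ≫ i)
    (hr : i ⁻¹ᵁ v'.opensRange = v.opensRange) :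
    OmegaSh.IsUnivThickening (v ≫ h) i₀ (v' ≫ h') := by
  refine ⟨fot_of_isPullback hu.1 (IsOpenImmersion.isPullback i₀ v v' i w.symm hr),
    by rw [reassoc_of% w, hu.2.1], fun T T' j b a hj hab => ?_⟩
  obtain ⟨a', ⟨h1, h2⟩, hun⟩ := hu.2.2 T T' j b (a ≫ v) hj (by rw [hab, Category.assoc])
  have hr' : Set.range a' ⊆ Set.range v' := range_le_of_comp hj a' v' fun t => by
    rw [← Scheme.Hom.comp_apply, h1, Category.assoc, ← w]
    exact ⟨i₀ (a t), rfl⟩
  refine ⟨IsOpenImmersion.lift v' a' hr', ⟨?_, ?_⟩, fun a'' h'' => ?_⟩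
  · rw [← cancel_mono v', Category.assoc, IsOpenImmersion.lift_fac, h1, Category.assoc, Category.assoc, w]
  · rw [IsOpenImmersion.lift_fac_assoc, h2]
  · rw [← cancel_mono v', IsOpenImmersion.lift_fac]
    exact hun _ ⟨by rw [reassoc_of% h''.1, w, Category.assoc], by rw [Category.assoc, h''.2]⟩

/-- restriction to the open subscheme `V'` of the thickening, with `V` its trace -/
theorem univ_restrict_opens (hu : OmegaSh.IsUnivThickening h i h') (V : Z.Opens) (V' : Z'.Opens)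
    (hV : i ⁻¹ᵁ V' = V) : OmegaSh.IsUnivThickening (V.ι ≫ h) (i.resLE V' V hV.ge) (V'.ι ≫ h') :=
  univ_restrict hu V.ι V'.ι _ (i.resLE_comp_ι _) (by rw [Scheme.Opens.opensRange_ι, Scheme.Opens.opensRange_ι, hV])

/-- two universal thickenings are isomorphic -/
theorem exists_iso (hu : OmegaSh.IsUnivThickening h i h') {Z'' : Scheme.{u}} {i₂ : Z ⟶ Z''} {h'' : Z'' ⟶ X}
    (hu₂ : OmegaSh.IsUnivThickening h i₂ h'') : ∃ e : Z' ≅ Z'', i ≫ e.hom = i₂ ∧ e.hom ≫ h'' = h' := by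
  obtain ⟨f, ⟨hf1, hf2⟩, -⟩ := hu₂.2.2 Z Z' i h' (𝟙 Z) hu.1 (by rw [hu.2.1, Category.id_comp])
  obtain ⟨g, ⟨hg1, hg2⟩, -⟩ := hu.2.2 Z Z'' i₂ h'' (𝟙 Z) hu₂.1 (by rw [hu₂.2.1, Category.id_comp])
  rw [Category.id_comp] at hf1 hg1
  refine ⟨⟨f, g, ?_, ?_⟩, hf1, hf2⟩
  · exact (hu.2.2 Z Z' i h' (𝟙 Z) hu.1 (by rw [hu.2.1, Category.id_comp])).unique
      ⟨by rw [reassoc_of% hf1, hg1, Category.id_comp], by rw [Category.assoc, hg2, hf2]⟩
      ⟨by simp, by simp⟩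
  · exact (hu₂.2.2 Z Z'' i₂ h'' (𝟙 Z) hu₂.1 (by rw [hu₂.2.1, Category.id_comp])).unique
      ⟨by rw [reassoc_of% hg1, hf1, Category.id_comp], by rw [Category.assoc, hf2, hg2]⟩
      ⟨by simp, by simp⟩

/-- transport along an isomorphism of thickenings -/
theorem univ_of_iso (hu : OmegaSh.IsUnivThickening h i h') {Z'' : Scheme.{u}} (e : Z'' ≅ Z')
    {i₂ : Z ⟶ Z''} {h'' : Z'' ⟶ X} (hi : i₂ ≫ e.hom = i) (hh : e.hom ≫ h' = h'') :
    OmegaSh.IsUnivThickening h i₂ h'' := by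
  refine ⟨fot_of_isPullback hu.1 (f := 𝟙 Z) (f' := e.hom) ?_, by rw [← hh, reassoc_of% hi, hu.2.1],
    fun T T' j b a hj hab => ?_⟩
  · exact IsPullback.of_vert_isIso ⟨by rw [hi, Category.id_comp]⟩
  · obtain ⟨a', ⟨h1, h2⟩, hun⟩ := hu.2.2 T T' j b a hj hab
    refine ⟨a' ≫ e.inv, ⟨?_, ?_⟩, fun a'' h3 => ?_⟩
    · rw [← cancel_mono e.hom, Category.assoc, Category.assoc, Category.assoc, e.inv_hom_id,
        Category.comp_id, h1, hi]
    · rw [← hh, Category.assoc, e.inv_hom_id_assoc, h2]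
    · rw [← hun (a'' ≫ e.hom) ⟨by rw [reassoc_of% h3.1, hi], by rw [Category.assoc, hh, h3.2]⟩,
        Category.assoc, e.hom_inv_id, Category.comp_id]

/-- being a universal thickening is local on the thickened scheme -/
theorem univ_of_cover (hi : Fot i) (he : i ≫ h' = h)
    (H : ∀ x : Z', ∃ (V : Z.Opens) (V' : Z'.Opens) (hV : i ⁻¹ᵁ V' = V), x ∈ V' ∧
      OmegaSh.IsUnivThickening (V.ι ≫ h) (i.resLE V' V hV.ge) (V'.ι ≫ h')) :
    OmegaSh.IsUnivThickening h i h' := by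
  refine ⟨hi, he, fun T T' j b a hj hab => ?_⟩
  have := Fot.surjective hj
  choose V V' hV hxV hVu using H
  have key : ∀ (z : Z') (P : Scheme.{u}) (r : P ⟶ T') [IsOpenImmersion r],
      (∀ t : T, j t ∈ Set.range r → i (a t) ∈ V' z) → ∃ aP, Lifts i h' j b a r aP ∧
        ∀ a'', Lifts i h' j b a r a'' → a'' = aP := by
    intro z P r _ hin
    have hmem : ∀ p : ↥(pullback j r), a (pullback.fst j r p) ∈ V z := fun p => by
      have h1 : j (pullback.fst j r p) ∈ Set.range r := ⟨pullback.snd j r p, by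
        rw [← Scheme.Hom.comp_apply, ← Scheme.Hom.comp_apply, pullback.condition]⟩
      have h2 : pullback.fst j r p = pullback.fst j r p := rfl
      have h3 := hin _ h1
      rwa [← hV z]
    let a₀ : pullback j r ⟶ V z := IsOpenImmersion.lift (V z).ι (pullback.fst j r ≫ a) (by
      rw [Scheme.Opens.range_ι]; rintro _ ⟨p, rfl⟩; exact hmem p)
    have ha₀ : a₀ ≫ (V z).ι = pullback.fst j r ≫ a := IsOpenImmersion.lift_fac _ _ _
    obtain ⟨a', ⟨h1, h2⟩, hun⟩ := (hVu z).2.2 _ P (pullback.snd j r) (r ≫ b) a₀ (fot_snd hj r) (by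
      rw [reassoc_of% ha₀, ← pullback.condition_assoc, hab])
    refine ⟨a' ≫ (V' z).ι, ⟨?_, by rw [Category.assoc, h2]⟩, fun a'' h'' => ?_⟩
    · rw [reassoc_of% h1, Scheme.Hom.resLE_comp_ι, reassoc_of% ha₀]
    · have hr : Set.range a'' ⊆ Set.range (V' z).ι := range_le_of_comp (fot_snd hj r) a'' _ fun p => by
        rw [← Scheme.Hom.comp_apply, h''.1, Scheme.Opens.range_ι]
        show i (a (pullback.fst j r p)) ∈ V' z
        rw [← Scheme.Hom.mem_preimage, hV]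
        exact hmem p
      rw [← hun (IsOpenImmersion.lift (V' z).ι a'' hr) ⟨?_, ?_⟩, IsOpenImmersion.lift_fac]
      · rw [← cancel_mono (V' z).ι, Category.assoc, IsOpenImmersion.lift_fac, h''.1, Category.assoc,
          Scheme.Hom.resLE_comp_ι, reassoc_of% ha₀]
      · rw [IsOpenImmersion.lift_fac_assoc, h''.2]
  have hnhd : ∀ x : T', ∃ (z : Z') (W : T'.Opens), x ∈ W ∧ ∀ t : T, j t ∈ W → i (a t) ∈ V' z := by
    intro x
    obtain ⟨t, rfl⟩ := j.surjective x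
    have := Fot.isClosedImmersion hj
    obtain ⟨W, hW, hWe⟩ := j.isEmbedding.isInducing.isOpen_iff.1 ((a ≫ i) ⁻¹ᵁ V' (i (a t))).isOpen
    refine ⟨i (a t), ⟨W, hW⟩, ?_, fun s hs => ?_⟩
    · show t ∈ j ⁻¹' W
      rw [hWe]; exact hxV _
    · have : s ∈ j ⁻¹' W := hs
      rw [hWe] at this; exact this
  choose z W hxW hW using hnhd
  refine existsUnique_of_local (fun P r _ a₁ a₂ h₁ h₂ => ?_) fun x => ?_
  · refine unique_of_cover r h₁ h₂ fun p => ⟨_, (r ⁻¹ᵁ W (r p)).ι, inferInstance,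
      ⟨⟨p, hxW (r p)⟩, rfl⟩, fun c₁ c₂ hc₁ hc₂ => ?_⟩
    obtain ⟨aP, -, huniq⟩ := key (z (r p)) _ ((r ⁻¹ᵁ W (r p)).ι ≫ r) (by
      rintro t ⟨q, hq⟩
      refine hW _ t ?_
      rw [← hq]; exact q.2)
    rw [huniq _ hc₁, huniq _ hc₂]
  · obtain ⟨aP, h1, -⟩ := key (z x) _ (W x).ι (fun t ht => hW x t (by rwa [Scheme.Opens.range_ι] at ht))
    exact ⟨_, (W x).ι, inferInstance, ⟨⟨x, hxW x⟩, rfl⟩, aP, h1⟩

end Groth.Agent.OmegaThick
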