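/-
Universal first order thickenings: the affine case and affine charts.
-/
import Groth.Agent.OmegaThick.Scheme
import Groth.Agent.OmegaThick.Exists
import Groth.Agent.OmegaThick.Props
import Groth.Agent.NilAffine.Main

set_option autoImplicit false
set_option backward.isDefEq.respectTransparency false
set_option linter.style.haveILetI false

universe u

open AlgebraicGeometry CategoryTheory CategoryTheory.Limits TopologicalSpace

namespace Groth.Agent.OmegaThick

variable {X Z Z' T T' : Scheme.{u}}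

/-- `Spec` of a quotient map -/
noncomputable abbrev sq {A : Type u} [CommRing A] (I : Ideal A) :
    Spec (CommRingCat.of (A ⧸ I)) ⟶ Spec (CommRingCat.of A) :=
  Spec.map (CommRingCat.ofHom (Ideal.Quotient.mk I))

theorem ker_app_top {A B : CommRingCat.{u}} (φ : A ⟶ B) :
    RingHom.ker ((Spec.map φ).app ⊤).hom =
      (RingHom.ker φ.hom).map (Scheme.ΓSpecIso A).commRingCatIsoToRingEquiv.symm := by
  ext x
  obtain ⟨x, rfl⟩ := (Scheme.ΓSpecIso A).commRingCatIsoToRingEquiv.symm.surjective x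
  rw [Ideal.mem_map_of_equiv]
  have h1 : (Spec.map φ).app ⊤ ((Scheme.ΓSpecIso A).inv x) = (Scheme.ΓSpecIso B).inv (φ x) := by
    rw [← CommRingCat.comp_apply, ← CommRingCat.comp_apply]
    exact congr($(Scheme.ΓSpecIso_inv_naturality φ).hom x).symm
  constructor
  · intro h
    refine ⟨x, ?_, rfl⟩
    rw [RingHom.mem_ker] at h ⊢
    apply (Scheme.ΓSpecIso B).commRingCatIsoToRingEquiv.symm.injective
    exact (h1.symm.trans h).trans (map_zero _).symm
  · rintro ⟨y, hy, hxy⟩
    obtain rfl := (Scheme.ΓSpecIso A).commRingCatIsoToRingEquiv.symm.injective hxy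
    rw [RingHom.mem_ker] at hy ⊢
    exact h1.trans (by rw [hy]; exact map_zero _)

theorem surjective_of_closedImm {A B : CommRingCat.{u}} (φ : A ⟶ B) [IsClosedImmersion (Spec.map φ)] :
    Function.Surjective φ.hom := by
  intro b
  obtain ⟨a, ha⟩ := (IsClosedImmersion.isAffine_surjective_of_isAffine (Spec.map φ)).2 ((Scheme.ΓSpecIso B).inv.hom b)
  refine ⟨(Scheme.ΓSpecIso A).hom.hom a, ?_⟩
  have := congr($(Scheme.ΓSpecIso_naturality φ).hom a)
  rw [CommRingCat.comp_apply, CommRingCat.comp_apply, ha] at this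
  rw [← this, ← CommRingCat.comp_apply, Iso.inv_hom_id]
  rfl

theorem fot_spec {A B : CommRingCat.{u}} (φ : A ⟶ B) (hs : Function.Surjective φ)
    (hsq : RingHom.ker φ.hom ^ 2 = ⊥) : Fot (Spec.map φ) := by
  have : IsClosedImmersion (Spec.map φ) := IsClosedImmersion.spec_of_surjective φ hs
  have : Surjective (Spec.map φ) := by
    refine ⟨fun x => ?_⟩
    have hx : x ∈ Set.range (PrimeSpectrum.comap φ.hom) := by
      rw [range_comap_of_surjective _ _ hs, PrimeSpectrum.mem_zeroLocus]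
      intro y hy
      have h1 : y * y ∈ RingHom.ker φ.hom ^ 2 := by rw [pow_two]; exact Ideal.mul_mem_mul hy hy
      rw [hsq, Ideal.mem_bot] at h1
      exact (x.2.mem_or_mem (h1 ▸ x.asIdeal.zero_mem)).elim id id
    exact hx
  refine fot_of_ker_sq _ fun x => ⟨⟨⊤, isAffineOpen_top _⟩, trivial, ?_⟩
  rw [ker_app_top, ← Ideal.map_pow, hsq, Ideal.map_bot]

theorem fot_sq {A : Type u} [CommRing A] (I : Ideal A) (hI : I ^ 2 = ⊥) : Fot (sq I) :=
  fot_spec _ Ideal.Quotient.mk_surjective (by rw [CommRingCat.hom_ofHom, Ideal.mk_ker, hI])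

/-- a first order thickening of an affine scheme is a square zero quotient -/
theorem Fot.exists_spec {A : Type u} [CommRing A] {j : T ⟶ Spec (CommRingCat.of A)} (hj : Fot j) :
    ∃ (I : Ideal A) (_ : I ^ 2 = ⊥) (e : T ≅ Spec (CommRingCat.of (A ⧸ I))), j = e.hom ≫ sq I := by
  have := hj.isClosedImmersion
  obtain ⟨I, e, he⟩ := IsClosedImmersion.Spec_iff.mp this
  refine ⟨I, ?_, e, he⟩
  have h := hj.ker_sq ⟨⊤, isAffineOpen_top _⟩
  have h2 : RingHom.ker (j.app ⊤).hom = RingHom.ker ((sq I).app ⊤).hom := by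
    subst he
    rw [Scheme.Hom.comp_app, CommRingCat.hom_comp]
    ext x
    simp only [RingHom.mem_ker, RingHom.comp_apply]
    exact (map_eq_zero_iff _ (ConcreteCategory.bijective_of_isIso _).1)
  rw [h2, ker_app_top, ← Ideal.map_pow, CommRingCat.hom_ofHom, Ideal.mk_ker,
    Ideal.map_eq_bot_iff_of_injective (RingEquiv.injective _)] at h
  exact h

/-- lifting against affine test thickenings suffices -/
theorem univ_of_affine {h : Z ⟶ X} {i : Z ⟶ Z'} {h' : Z' ⟶ X} (hi : Fot i) (he : i ≫ h' = h)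
    (H : ∀ (A : Type u) [CommRing A] (I : Ideal A), I ^ 2 = ⊥ →
      ∀ (a : Spec (CommRingCat.of (A ⧸ I)) ⟶ Z) (b : Spec (CommRingCat.of A) ⟶ X), sq I ≫ b = a ≫ h →
        ∃! a', sq I ≫ a' = a ≫ i ∧ a' ≫ h' = b) :
    OmegaSh.IsUnivThickening h i h' := by
  refine ⟨hi, he, fun T T' j b a hj hab => ?_⟩
  have key : ∀ (C : Type u) [CommRing C] (r : Spec (CommRingCat.of C) ⟶ T'),
      ∃! a', Lifts i h' j b a r a' := by
    intro C _ r
    obtain ⟨I, hI, e, hE⟩ := (fot_snd hj r).exists_spec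
    obtain ⟨a', ⟨h1, h2⟩, hun⟩ := H C I hI (e.inv ≫ pullback.fst j r ≫ a) (r ≫ b) (by
      rw [← cancel_epi e.hom, ← Category.assoc, ← hE]
      simp only [Category.assoc, Iso.hom_inv_id_assoc]
      rw [← pullback.condition_assoc, hab])
    refine ⟨a', ⟨?_, h2⟩, fun a'' h'' => hun a'' ⟨?_, h''.2⟩⟩
    · rw [hE, Category.assoc, h1]
      simp
    · rw [← cancel_epi e.hom, ← Category.assoc, ← hE, h''.1]
      simp
  refine existsUnique_of_local (fun P r _ a₁ a₂ h₁ h₂ => ?_) fun x => ?_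
  · refine unique_of_cover r h₁ h₂ fun p => ?_
    obtain ⟨U, hU, hxU, -⟩ := exists_isAffineOpen_mem_and_subset (X := P) (x := p) (U := ⊤) trivial
    exact ⟨_, hU.fromSpec, inferInstance, by rw [hU.range_fromSpec]; exact hxU,
      fun c₁ c₂ hc₁ hc₂ => (key Γ(P, U) _).unique hc₁ hc₂⟩
  · obtain ⟨U, hU, hxU, -⟩ := exists_isAffineOpen_mem_and_subset (X := T') (x := x) (U := ⊤) trivial
    exact ⟨_, hU.fromSpec, inferInstance, by rw [hU.range_fromSpec]; exact hxU,
      (key Γ(T', U) _).exists⟩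

section ring

variable (R S S' : Type u) [CommRing R] [CommRing S] [CommRing S'] [Algebra R S] [Algebra R S']
  (π : S' →ₐ[R] S)

/-- the scheme maps attached to `π` -/
theorem univ_spec (h : OmegaSh.IsUnivThickeningRing R S S' π) :
    OmegaSh.IsUnivThickening (Spec.map (CommRingCat.ofHom (algebraMap R S)))
      (Spec.map (CommRingCat.ofHom π.toRingHom)) (Spec.map (CommRingCat.ofHom (algebraMap R S'))) := by
  obtain ⟨hs, hsq, huniv⟩ := h
  refine univ_of_affine (fot_spec _ hs hsq) (by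
    rw [← Spec.map_comp]; exact congrArg _ (CommRingCat.hom_ext π.comp_algebraMap)) fun A _ I hI a b hab => ?_
  obtain ⟨a, rfl⟩ : ∃ a₀, Spec.map a₀ = a := ⟨_, Spec.map_preimage a⟩
  obtain ⟨b, rfl⟩ : ∃ b₀, Spec.map b₀ = b := ⟨_, Spec.map_preimage b⟩
  rw [← Spec.map_comp, ← Spec.map_comp, Spec.map_inj] at hab
  letI : Algebra R A := b.hom.toAlgebra
  let aA : S →ₐ[R] A ⧸ I := { a.hom with commutes' := fun r => congr($(hab).hom r).symm }
  obtain ⟨a', ha', hun⟩ := huniv A I hI aA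
  let a'C : CommRingCat.of S' ⟶ CommRingCat.of A := CommRingCat.ofHom a'.toRingHom
  refine ⟨Spec.map a'C, ⟨?_, ?_⟩, fun c hc => ?_⟩
  · rw [← Spec.map_comp, ← Spec.map_comp, Spec.map_inj]
    exact CommRingCat.hom_ext (RingHom.ext fun x => congr($ha' x))
  · rw [← Spec.map_comp, Spec.map_inj]
    exact CommRingCat.hom_ext (RingHom.ext fun r => a'.commutes r)
  · obtain ⟨c, rfl⟩ : ∃ c₀, Spec.map c₀ = c := ⟨_, Spec.map_preimage c⟩
    rw [← Spec.map_comp, ← Spec.map_comp, ← Spec.map_comp, Spec.map_inj, Spec.map_inj] at hc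
    rw [Spec.map_inj]
    let cA : S' →ₐ[R] A := { c.hom with commutes' := fun r => congr($(hc.2).hom r) }
    have := hun cA (AlgHom.ext fun x => congr($(hc.1).hom x))
    exact CommRingCat.hom_ext (congrArg AlgHom.toRingHom this)

theorem univRing_of_spec (h : OmegaSh.IsUnivThickening (Spec.map (CommRingCat.ofHom (algebraMap R S)))
      (Spec.map (CommRingCat.ofHom π.toRingHom)) (Spec.map (CommRingCat.ofHom (algebraMap R S')))) :
    OmegaSh.IsUnivThickeningRing R S S' π := by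
  obtain ⟨hfot, -, huniv⟩ := h
  have := Fot.isClosedImmersion hfot
  refine ⟨surjective_of_closedImm (CommRingCat.ofHom π.toRingHom), ?_, fun A _ _ I hI a => ?_⟩
  · have h1 := Fot.ker_sq hfot ⟨⊤, isAffineOpen_top _⟩
    rw [ker_app_top, ← Ideal.map_pow, Ideal.map_eq_bot_iff_of_injective (RingEquiv.injective _)] at h1
    exact h1
  · let aC : CommRingCat.of S ⟶ CommRingCat.of (A ⧸ I) := CommRingCat.ofHom a.toRingHom
    let bC : CommRingCat.of R ⟶ CommRingCat.of A := CommRingCat.ofHom (algebraMap R A)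
    obtain ⟨c, ⟨hc1, hc2⟩, hun⟩ := huniv _ _ (sq I) (Spec.map bC) (Spec.map aC) (fot_sq I hI) (by
      rw [← Spec.map_comp, ← Spec.map_comp, Spec.map_inj]
      exact CommRingCat.hom_ext (RingHom.ext fun r => (a.commutes r).symm))
    obtain ⟨c, rfl⟩ : ∃ c₀, Spec.map c₀ = c := ⟨_, Spec.map_preimage c⟩
    rw [← Spec.map_comp, ← Spec.map_comp, Spec.map_inj] at hc1
    rw [← Spec.map_comp, Spec.map_inj] at hc2
    refine ⟨{ c.hom with commutes' := fun r => congr($(hc2).hom r) },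
      AlgHom.ext fun x => congr($(hc1).hom x), fun d hd => ?_⟩
    let dC : CommRingCat.of S' ⟶ CommRingCat.of A := CommRingCat.ofHom d.toRingHom
    have := hun (Spec.map dC) ⟨by
      rw [← Spec.map_comp, ← Spec.map_comp, Spec.map_inj]
      exact CommRingCat.hom_ext (RingHom.ext fun x => congr($hd x)), by
      rw [← Spec.map_comp, Spec.map_inj]
      exact CommRingCat.hom_ext (RingHom.ext fun r => d.commutes r)⟩
    rw [Spec.map_inj] at this
    exact AlgHom.ext fun x => congr($(this).hom x)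

end ring

variable {h : Z ⟶ X} {i : Z ⟶ Z'} {h' : Z' ⟶ X}

/-- affine open subschemes lying over an affine open admit universal thickenings -/
theorem exists_affine [FormallyUnramified h] (V : Z.affineOpens) (U : X.affineOpens) (e : V.1 ≤ h ⁻¹ᵁ U.1) :
    ∃ (S' : CommRingCat.{u}) (π : S' ⟶ Γ(Z, V.1)) (g : Γ(X, U.1) ⟶ S'),
      g.hom.FormallyUnramified ∧
      OmegaSh.IsUnivThickening (V.1.ι ≫ h) (V.2.isoSpec.hom ≫ Spec.map π) (Spec.map g ≫ U.2.fromSpec) := by
  let f := h.appLE U.1 V.1 e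
  letI := f.hom.toAlgebra
  haveI : Algebra.FormallyUnramified Γ(X, U.1) Γ(Z, V.1) := h.formallyUnramified_appLE U.2 V.2 e
  obtain ⟨S', _, _, π, hπ⟩ := exists_univ (R := Γ(X, U.1)) (S := Γ(Z, V.1))
  let g : Γ(X, U.1) ⟶ CommRingCat.of S' := CommRingCat.ofHom (algebraMap _ S')
  let πC : CommRingCat.of S' ⟶ Γ(Z, V.1) := CommRingCat.ofHom π.toRingHom
  refine ⟨CommRingCat.of S', πC, g, ?_, ?_⟩
  · letI : Algebra S' Γ(Z, V.1) := π.toRingHom.toAlgebra
    haveI : IsScalarTower Γ(X, U.1) S' Γ(Z, V.1) := IsScalarTower.of_algebraMap_eq fun r => (π.commutes r).symm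
    have h1 : IsScalarTower.toAlgHom Γ(X, U.1) S' Γ(Z, V.1) = π := AlgHom.ext fun _ => rfl
    have h2 := formallyUnramified_of_univ Γ(X, U.1) Γ(Z, V.1) S' (h1.symm ▸ hπ)
    exact (RingHom.formallyUnramified_algebraMap (R := Γ(X, U.1)) (S := S')).mpr h2
  · have h3 := univ_spec Γ(X, U.1) Γ(Z, V.1) S' π hπ
    have h4 := univ_iso_comp (univ_comp_openImmersion h3 U.2.fromSpec) V.2.isoSpec.hom
    rwa [show CommRingCat.ofHom (algebraMap Γ(X, U.1) Γ(Z, V.1)) = h.appLE U.1 V.1 e from rfl,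
      IsAffineOpen.SpecMap_appLE_fromSpec h U.2 V.2 e, IsAffineOpen.isoSpec_hom,
      IsAffineOpen.toSpecΓ_fromSpec_assoc] at h4

theorem chart_cover [FormallyUnramified h] (z : Z) :
    ∃ (V : Z.affineOpens) (U : X.affineOpens), z ∈ V.1 ∧ V.1 ≤ h ⁻¹ᵁ U.1 := by
  obtain ⟨U, hU, hxU, -⟩ := exists_isAffineOpen_mem_and_subset (X := X) (x := h z) (U := ⊤) trivial
  obtain ⟨V, hV, hzV, hVU⟩ := exists_isAffineOpen_mem_and_subset (X := Z) (x := z) (U := h ⁻¹ᵁ U) hxU
  exact ⟨⟨V, hV⟩, ⟨U, hU⟩, hzV, hVU⟩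

/-- the trace of an open of `Z` in a thickening -/
theorem exists_preimage (hi : Fot i) (V : Z.Opens) : ∃ V' : Z'.Opens, i ⁻¹ᵁ V' = V := by
  have := hi.isClosedImmersion
  obtain ⟨W, hW, hWe⟩ := i.isEmbedding.isInducing.isOpen_iff.1 V.isOpen
  exact ⟨⟨W, hW⟩, Opens.ext hWe⟩

/-- local criterion for the structure map of a universal thickening -/
theorem formallyUnramified_of_univThickening [FormallyUnramified h] (hu : OmegaSh.IsUnivThickening h i h') :
    FormallyUnramified h' := by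
  have hloc : ∀ x : Z', ∃ V' : Z'.Opens, x ∈ V' ∧ FormallyUnramified (V'.ι ≫ h') := by
    intro x
    obtain ⟨z, rfl⟩ := Fot.point hu.1 x
    obtain ⟨V, U, hzV, hVU⟩ := chart_cover (h := h) z
    obtain ⟨V', hV'⟩ := exists_preimage hu.1 V.1
    obtain ⟨S', π, g, hg, hS⟩ := exists_affine (h := h) V U hVU
    obtain ⟨e, -, he⟩ := exists_iso (univ_restrict_opens hu V.1 V' hV') hS
    refine ⟨V', by rw [← hV'] at hzV; exact hzV, ?_⟩
    rw [← he]
    have : FormallyUnramified (Spec.map g) := (HasRingHomProperty.Spec_iff (P := @FormallyUnramified)).mpr hg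
    exact MorphismProperty.comp_mem _ _ _ inferInstance (MorphismProperty.comp_mem _ _ _ this inferInstance)
  choose V' hxV' hV' using hloc
  exact (IsZariskiLocalAtSource.iff_of_openCover (P := @FormallyUnramified)
    (Z'.openCoverOfIsOpenCover V' (IsOpenCover.mk (top_le_iff.mp fun x _ => Opens.mem_iSup.mpr ⟨x, hxV' x⟩)))).mpr hV'

end Groth.Agent.OmegaThick
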