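/-
Existence of universal first order thickenings of formally unramified morphisms: gluing the affine pieces.
-/
import Groth.Agent.OmegaThick.Affine

set_option autoImplicit false
set_option backward.isDefEq.respectTransparency false
set_option linter.style.haveILetI false

universe u

open AlgebraicGeometry CategoryTheory CategoryTheory.Limits TopologicalSpace

namespace Groth.Agent.OmegaThick

variable {X Z : Scheme.{u}} (h : Z ⟶ X)

/-- an open subscheme of `Z` has a universal first order thickening over `X` -/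
def HasUniv (V : Z.Opens) : Prop :=
  ∃ (Z' : Scheme.{u}) (i : (V : Scheme.{u}) ⟶ Z') (h' : Z' ⟶ X), OmegaSh.IsUnivThickening (V.ι ≫ h) i h'

/-- the indices of the gluing -/
abbrev Idx : Type u := { V : Z.Opens // HasUniv h V }

variable {h}

noncomputable def piece (V : Idx h) : Scheme.{u} := V.2.choose

noncomputable def pieceι (V : Idx h) : (V.1 : Scheme.{u}) ⟶ piece V := V.2.choose_spec.choose

noncomputable def pieceHom (V : Idx h) : piece V ⟶ X := V.2.choose_spec.choose_spec.choose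

theorem piece_univ (V : Idx h) : OmegaSh.IsUnivThickening (V.1.ι ≫ h) (pieceι V) (pieceHom V) :=
  V.2.choose_spec.choose_spec.choose_spec

theorem trans_spec {V W : Idx h} (e : V ≤ W) :
    ∃! m : piece V ⟶ piece W, pieceι V ≫ m = Z.homOfLE e ≫ pieceι W ∧ m ≫ pieceHom W = pieceHom V :=
  (piece_univ W).2.2 _ _ (pieceι V) (pieceHom V) (Z.homOfLE e) (piece_univ V).1 (by
    rw [(piece_univ V).2.1, Scheme.homOfLE_ι_assoc])

noncomputable def trans {V W : Idx h} (e : V ≤ W) : piece V ⟶ piece W := (trans_spec e).exists.choose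

theorem pieceι_trans {V W : Idx h} (e : V ≤ W) : pieceι V ≫ trans e = Z.homOfLE e ≫ pieceι W :=
  (trans_spec e).exists.choose_spec.1

theorem trans_hom {V W : Idx h} (e : V ≤ W) : trans e ≫ pieceHom W = pieceHom V :=
  (trans_spec e).exists.choose_spec.2

/-- the part of a piece over a smaller open -/
theorem exists_trace {W : Idx h} (V : Z.Opens) (e : V ≤ W.1) :
    ∃ (W' : (piece W).Opens) (i₀ : (V : Scheme.{u}) ⟶ W'), i₀ ≫ W'.ι = Z.homOfLE e ≫ pieceι W ∧
      OmegaSh.IsUnivThickening (V.ι ≫ h) i₀ (W'.ι ≫ pieceHom W) := by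
  obtain ⟨W', hW'⟩ := exists_preimage (piece_univ W).1 (W.1.ι ⁻¹ᵁ V)
  have hr : Set.range (Z.homOfLE e ≫ pieceι W) ⊆ Set.range W'.ι := by
    rw [Scheme.Opens.range_ι]
    rintro _ ⟨v, rfl⟩
    show Z.homOfLE e v ∈ pieceι W ⁻¹ᵁ W'
    rw [hW']
    show W.1.ι (Z.homOfLE e v) ∈ V
    rw [← Scheme.Hom.comp_apply, Scheme.homOfLE_ι]
    exact v.2
  refine ⟨W', IsOpenImmersion.lift W'.ι _ hr, IsOpenImmersion.lift_fac _ _ _, ?_⟩
  have := univ_restrict (piece_univ W) (Z.homOfLE e) W'.ι (IsOpenImmersion.lift W'.ι _ hr)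
    (IsOpenImmersion.lift_fac _ _ _) (by
      rw [Scheme.Opens.opensRange_ι, hW']
      ext x
      simp only [Scheme.Hom.coe_opensRange, Opens.map_coe, Set.mem_preimage, SetLike.mem_coe, Set.mem_range]
      constructor
      · intro hx
        exact ⟨⟨W.1.ι x, hx⟩, W.1.ι.isOpenEmbedding.injective (by rw [← Scheme.Hom.comp_apply, Scheme.homOfLE_ι]; rfl)⟩
      · rintro ⟨v, rfl⟩
        rw [← Scheme.Hom.comp_apply, Scheme.homOfLE_ι]
        exact v.2)
  rwa [Scheme.homOfLE_ι_assoc] at this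

theorem hasUniv_mono {W : Idx h} (V : Z.Opens) (e : V ≤ W.1) : HasUniv h V := by
  obtain ⟨W', i₀, -, hu⟩ := exists_trace V e
  exact ⟨_, i₀, _, hu⟩

instance isOpenImmersion_trans {V W : Idx h} (e : V ≤ W) : IsOpenImmersion (trans e) := by
  obtain ⟨W', i₀, hi₀, hu⟩ := exists_trace V.1 e
  obtain ⟨φ, hφ1, hφ2⟩ := exists_iso (piece_univ V) hu
  have : φ.hom ≫ W'.ι = trans e := (trans_spec e).unique
    ⟨by rw [reassoc_of% hφ1, hi₀], by rw [Category.assoc, hφ2]⟩ ⟨pieceι_trans e, trans_hom e⟩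
  rw [← this]
  infer_instance

variable (h)

/-- the gluing diagram -/
noncomputable def diag : Idx h ⥤ Scheme.{u} where
  obj := piece
  map f := trans (leOfHom f)
  map_id V := (trans_spec le_rfl).unique ⟨pieceι_trans _, trans_hom _⟩
    ⟨by rw [Category.comp_id]; exact ((Category.id_comp _).symm.trans (by rw [Scheme.homOfLE_rfl])), Category.id_comp _⟩
  map_comp {U V W} f g := (trans_spec (leOfHom (f ≫ g))).unique ⟨pieceι_trans _, trans_hom _⟩
    ⟨by rw [reassoc_of% (pieceι_trans (leOfHom f)), pieceι_trans, Scheme.homOfLE_homOfLE_assoc],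
      by rw [Category.assoc, trans_hom, trans_hom]⟩

instance {U V : Idx h} (f : U ⟶ V) : IsOpenImmersion ((diag h).map f) := isOpenImmersion_trans _

instance : (diag h ⋙ Scheme.forget).IsLocallyDirected := by
  refine ⟨fun {i j k} fi fj xi xj e => ?_⟩
  obtain ⟨zi, rfl⟩ := Fot.point (piece_univ i).1 xi
  obtain ⟨zj, rfl⟩ := Fot.point (piece_univ j).1 xj
  have hz : i.1.ι zi = j.1.ι zj := by
    have e1 : (pieceι i ≫ trans (leOfHom fi)) zi = (pieceι j ≫ trans (leOfHom fj)) zj := e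
    rw [pieceι_trans, pieceι_trans] at e1
    have e2 : Z.homOfLE (leOfHom fi) zi = Z.homOfLE (leOfHom fj) zj := Fot.injective (piece_univ k).1 e1
    have e3 := congrArg k.1.ι e2
    rwa [← Scheme.Hom.comp_apply, ← Scheme.Hom.comp_apply, Scheme.homOfLE_ι, Scheme.homOfLE_ι] at e3
  let l : Idx h := ⟨i.1 ⊓ j.1, hasUniv_mono (W := i) _ inf_le_left⟩
  let zl : (l.1 : Scheme.{u}) := ⟨i.1.ι zi, zi.2, by rw [hz]; exact zj.2⟩
  refine ⟨l, homOfLE (show i.1 ⊓ j.1 ≤ i.1 from inf_le_left), homOfLE (show i.1 ⊓ j.1 ≤ j.1 from inf_le_right),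
    pieceι l zl, ?_, ?_⟩
  · show (pieceι l ≫ trans (show l ≤ i from (inf_le_left : i.1 ⊓ j.1 ≤ i.1))) zl = pieceι i zi
    rw [pieceι_trans, Scheme.Hom.comp_apply]
    congr 1
    exact i.1.ι.isOpenEmbedding.injective (by rw [← Scheme.Hom.comp_apply, Scheme.homOfLE_ι]; rfl)
  · show (pieceι l ≫ trans (show l ≤ j from (inf_le_right : i.1 ⊓ j.1 ≤ j.1))) zl = pieceι j zj
    rw [pieceι_trans, Scheme.Hom.comp_apply]
    congr 1
    exact j.1.ι.isOpenEmbedding.injective (by rw [← Scheme.Hom.comp_apply, Scheme.homOfLE_ι]; exact hz)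

/-- the glued thickening -/
noncomputable abbrev total : Scheme.{u} := colimit (diag h)

noncomputable abbrev totalHom : total h ⟶ X :=
  colimit.desc (diag h) ⟨X, fun V => pieceHom V, fun U V f => by
    show trans _ ≫ pieceHom V = pieceHom U ≫ 𝟙 X
    rw [trans_hom, Category.comp_id]⟩

/-- the open of the glued thickening below `V` -/
noncomputable abbrev totalι (V : Idx h) : piece V ⟶ total h := colimit.ι (diag h) V

theorem exists_total_incl (hc : ∀ z : Z, ∃ V : Idx h, z ∈ V.1) :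
    ∃ i : Z ⟶ total h, ∀ V : Idx h, V.1.ι ≫ i = pieceι V ≫ totalι h V := by
  choose c hc using hc
  let 𝒰 : Z.OpenCover := Z.openCoverOfIsOpenCover (fun V : Idx h => V.1)
    (IsOpenCover.mk (top_le_iff.mp fun z _ => Opens.mem_iSup.mpr ⟨c z, hc z⟩))
  have hagree : ∀ V W : Idx h, pullback.fst V.1.ι W.1.ι ≫ pieceι V ≫ totalι h V =
      pullback.snd V.1.ι W.1.ι ≫ pieceι W ≫ totalι h W := by
    intro V W
    let l : Idx h := ⟨V.1 ⊓ W.1, hasUniv_mono (W := V) _ inf_le_left⟩
    have e1 : l ≤ V := (inf_le_left : V.1 ⊓ W.1 ≤ V.1)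
    have e2 : l ≤ W := (inf_le_right : V.1 ⊓ W.1 ≤ W.1)
    have hr : Set.range (pullback.fst V.1.ι W.1.ι ≫ V.1.ι) ⊆ Set.range l.1.ι := by
      rintro _ ⟨p, rfl⟩
      rw [Scheme.Opens.range_ι]
      refine ⟨(pullback.fst V.1.ι W.1.ι p).2, ?_⟩
      rw [pullback.condition]
      exact (pullback.snd V.1.ι W.1.ι p).2
    let p := IsOpenImmersion.lift l.1.ι _ hr
    have hp : p ≫ l.1.ι = pullback.fst V.1.ι W.1.ι ≫ V.1.ι := IsOpenImmersion.lift_fac _ _ _
    have h1 : p ≫ Z.homOfLE e1 = pullback.fst V.1.ι W.1.ι := by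
      rw [← cancel_mono V.1.ι, Category.assoc, Scheme.homOfLE_ι, hp]
    have h2 : p ≫ Z.homOfLE e2 = pullback.snd V.1.ι W.1.ι := by
      rw [← cancel_mono W.1.ι, Category.assoc, Scheme.homOfLE_ι, hp, pullback.condition]
    rw [← h1, ← h2, Category.assoc, Category.assoc, ← reassoc_of% (pieceι_trans e1),
      ← reassoc_of% (pieceι_trans e2)]
    congr 2
    exact (colimit.w (diag h) (homOfLE e1)).trans (colimit.w (diag h) (homOfLE e2)).symm
  exact ⟨𝒰.glueMorphisms _ hagree, fun V => 𝒰.ι_glueMorphisms _ hagree V⟩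

theorem exists_univ_of_cover (hc : ∀ z : Z, ∃ V : Idx h, z ∈ V.1) :
    ∃ (Z' : Scheme.{u}) (i : Z ⟶ Z') (h' : Z' ⟶ X), OmegaSh.IsUnivThickening h i h' := by
  obtain ⟨i, hi⟩ := exists_total_incl h hc
  have he : i ≫ totalHom h = h := by
    refine Scheme.Cover.hom_ext (Z.openCoverOfIsOpenCover (fun V : Idx h => V.1)
      (IsOpenCover.mk (top_le_iff.mp fun z _ => Opens.mem_iSup.mpr ⟨_, (hc z).choose_spec⟩))) _ _ fun V => ?_
    change V.1.ι ≫ i ≫ totalHom h = V.1.ι ≫ h
    rw [reassoc_of% (hi V), colimit.ι_desc]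
    exact (piece_univ V).2.1
  have hpre : ∀ V : Idx h, i ⁻¹ᵁ (totalι h V).opensRange = V.1 := by
    intro V
    ext z
    constructor
    · rintro ⟨x, hx⟩
      obtain ⟨v, rfl⟩ := Fot.point (piece_univ V).1 x
      obtain ⟨W, hzW⟩ := hc z
      let w : (W.1 : Scheme.{u}) := ⟨z, hzW⟩
      have h1 : totalι h V (pieceι V v) = totalι h W (pieceι W w) := by
        rw [hx, ← Scheme.Hom.comp_apply, ← hi]; rfl
      obtain ⟨k, fv, fw, y, hy1, hy2⟩ := (Scheme.IsLocallyDirected.ι_eq_ι_iff (diag h)).mp h1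
      obtain ⟨u, rfl⟩ := Fot.point (piece_univ k).1 y
      have h2 : (pieceι k ≫ trans (leOfHom fw)) u = pieceι W w := hy2
      rw [pieceι_trans] at h2
      have h2' : Z.homOfLE (leOfHom fw) u = w := Fot.injective (piece_univ W).1 h2
      have h3 := congrArg W.1.ι h2' 
      rw [← Scheme.Hom.comp_apply, Scheme.homOfLE_ι] at h3
      show z ∈ V.1
      rw [show z = W.1.ι w from rfl, ← h3]
      exact leOfHom fv u.2
    · intro hz
      refine ⟨pieceι V ⟨z, hz⟩, ?_⟩
      rw [← Scheme.Hom.comp_apply, ← hi]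
      rfl
  have hpb : ∀ V : Idx h, IsPullback (pieceι V) V.1.ι (totalι h V) i := fun V =>
    IsOpenImmersion.isPullback _ _ _ _ (hi V) (by rw [hpre, Scheme.Opens.opensRange_ι])
  have : IsClosedImmersion i := by
    refine IsZariskiLocalAtTarget.of_openCover (Scheme.IsLocallyDirected.openCover (diag h)) fun V => ?_
    let e := (hpb V).flip.isoPullback
    have : pullback.snd i (totalι h V) = e.inv ≫ pieceι V := ((hpb V).flip.isoPullback_inv_snd).symm
    rw [show Scheme.Cover.pullbackHom (Scheme.IsLocallyDirected.openCover (diag h)) i V =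
      pullback.snd i (totalι h V) from rfl, this]
    have := Fot.isClosedImmersion (piece_univ V).1
    infer_instance
  have hsurj : Surjective i := ⟨fun x => by
    obtain ⟨V, y, rfl⟩ := Scheme.IsLocallyDirected.ι_jointly_surjective (diag h) x
    obtain ⟨v, rfl⟩ := Fot.point (piece_univ V).1 y
    exact ⟨V.1.ι v, by rw [← Scheme.Hom.comp_apply, hi]; rfl⟩⟩
  have hfot : Fot i := by
    refine fot_of_ker_sq i fun x => ?_
    obtain ⟨V, y, rfl⟩ := Scheme.IsLocallyDirected.ι_jointly_surjective (diag h) x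
    obtain ⟨W, hW, hyW, -⟩ := exists_isAffineOpen_mem_and_subset (X := piece V) (x := y) (U := ⊤) trivial
    refine ⟨⟨totalι h V ''ᵁ W, hW.image_of_isOpenImmersion _⟩, ⟨y, hyW, rfl⟩, ?_⟩
    have := Fot.isClosedImmersion (piece_univ V).1
    have h1 := Scheme.ker_ideal_of_isPullback_of_isOpenImmersion i (pieceι V) V.1.ι (totalι h V) (hpb V) ⟨W, hW⟩
    have h2 := Fot.ker_sq (piece_univ V).1 ⟨W, hW⟩
    rw [← Scheme.Hom.ker_apply (pieceι V) ⟨W, hW⟩, h1, Scheme.Hom.ker_apply] at h2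
    rw [pow_two, eq_bot_iff, Ideal.mul_le]
    intro a ha b hb
    let φ := ((totalι h V).appIso W).commRingCatIsoToRingEquiv
    have hm : φ a * φ b ∈ (RingHom.ker (i.app (totalι h V ''ᵁ W)).hom).comap ((totalι h V).appIso W).inv.hom ^ 2 := by
      rw [pow_two]
      exact Ideal.mul_mem_mul (by rw [Ideal.mem_comap]; show φ.symm (φ a) ∈ _; rwa [RingEquiv.symm_apply_apply])
        (by rw [Ideal.mem_comap]; show φ.symm (φ b) ∈ _; rwa [RingEquiv.symm_apply_apply])
    rw [h2, Ideal.mem_bot, ← map_mul, map_eq_zero_iff _ φ.injective] at hm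
    exact hm
  refine ⟨total h, i, totalHom h, univ_of_cover hfot he fun x => ?_⟩
  obtain ⟨V, y, rfl⟩ := Scheme.IsLocallyDirected.ι_jointly_surjective (diag h) x
  refine ⟨V.1, (totalι h V).opensRange, hpre V, ⟨y, rfl⟩, ?_⟩
  refine univ_of_iso (piece_univ V) (totalι h V).isoOpensRange.symm ?_ ?_
  · show i.resLE _ _ _ ≫ (totalι h V).isoOpensRange.inv = pieceι V
    rw [Iso.comp_inv_eq, ← cancel_mono (totalι h V).opensRange.ι, Scheme.Hom.resLE_comp_ι, Category.assoc,
      Scheme.Hom.isoOpensRange_hom_ι, hi]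
  · show (totalι h V).isoOpensRange.inv ≫ pieceHom V = _
    rw [Iso.inv_comp_eq, Scheme.Hom.isoOpensRange_hom_ι_assoc, colimit.ι_desc]

theorem exists_univThickening [FormallyUnramified h] :
    ∃ (Z' : Scheme.{u}) (i : Z ⟶ Z') (h' : Z' ⟶ X), OmegaSh.IsUnivThickening h i h' := by
  refine exists_univ_of_cover h fun z => ?_
  obtain ⟨V, U, hzV, hVU⟩ := chart_cover (h := h) z
  obtain ⟨S', π, g, -, hS⟩ := exists_affine (h := h) V U hVU
  exact ⟨⟨V.1, ⟨_, _, _, hS⟩⟩, hzV⟩

end Groth.Agent.OmegaThick
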