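/-
Ring-level universal thickenings on affine charts; composites of universal thickenings.
-/
import Groth.Agent.OmegaThick.Affine

set_option autoImplicit false
set_option backward.isDefEq.respectTransparency false
set_option linter.style.haveILetI false

universe u

open AlgebraicGeometry CategoryTheory CategoryTheory.Limits TopologicalSpace

namespace Groth.Agent.OmegaThick

variable {X Y Z Z' Y' Z'' : Scheme.{u}}

/-- On affine opens a universal thickening is a universal thickening of rings. -/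
theorem univ_ring_chart {h : Z ⟶ X} {i : Z ⟶ Z'} {h' : Z' ⟶ X} (hu : OmegaSh.IsUnivThickening h i h')
    {W : Z'.Opens} (hW : IsAffineOpen W) {O : X.Opens} (hO : IsAffineOpen O) (eW : W ≤ h' ⁻¹ᵁ O)
    (eV : i ⁻¹ᵁ W ≤ h ⁻¹ᵁ O) [Algebra Γ(X, O) Γ(Z', W)] [Algebra Γ(X, O) Γ(Z, i ⁻¹ᵁ W)]
    (hW' : algebraMap Γ(X, O) Γ(Z', W) = (h'.appLE O W eW).hom)
    (hV' : algebraMap Γ(X, O) Γ(Z, i ⁻¹ᵁ W) = (h.appLE O (i ⁻¹ᵁ W) eV).hom)
    (π : Γ(Z', W) →ₐ[Γ(X, O)] Γ(Z, i ⁻¹ᵁ W)) (hπ : π.toRingHom = (i.app W).hom) :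
    OmegaSh.IsUnivThickeningRing Γ(X, O) Γ(Z, i ⁻¹ᵁ W) Γ(Z', W) π := by
  have := Fot.isClosedImmersion hu.1
  have hV : IsAffineOpen (i ⁻¹ᵁ W) := hW.preimage i
  refine univRing_of_spec _ _ _ π (univ_of_comp_mono hO.fromSpec ?_)
  have h1 := univ_iso_comp (univ_restrict_opens hu (i ⁻¹ᵁ W) W rfl) hV.isoSpec.inv
  rw [hV', hW', hπ, CommRingCat.ofHom_hom, CommRingCat.ofHom_hom, CommRingCat.ofHom_hom,
    IsAffineOpen.SpecMap_appLE_fromSpec h hO hV eV, IsAffineOpen.SpecMap_appLE_fromSpec h' hO hW eW]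
  rw [IsAffineOpen.isoSpec_inv_ι_assoc] at h1
  refine univ_of_iso h1 hW.isoSpec.symm ?_ (by rw [Iso.symm_hom, IsAffineOpen.isoSpec_inv_ι_assoc])
  rw [← cancel_mono W.ι, Category.assoc, Category.assoc, Scheme.Hom.resLE_comp_ι,
    IsAffineOpen.isoSpec_inv_ι_assoc, Iso.symm_hom, IsAffineOpen.isoSpec_inv_ι, Scheme.Hom.app_eq_appLE,
    IsAffineOpen.SpecMap_appLE_fromSpec i hW hV le_rfl]

variable {a : Z ⟶ Y} {b : Y ⟶ X} {i : Z ⟶ Z'} {c : Z' ⟶ X} {j : Y ⟶ Y'} {d : Y' ⟶ X} {m : Z' ⟶ Y'}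

/-- The fibre product of the thickenings is universal over the middle scheme. -/
theorem univ_pullback (hZ : OmegaSh.IsUnivThickening (a ≫ b) i c) (hY : OmegaSh.IsUnivThickening b j d)
    (hm1 : i ≫ m = a ≫ j) (hm2 : m ≫ d = c) :
    OmegaSh.IsUnivThickening a (pullback.lift a i hm1.symm) (pullback.fst j m) := by
  have := Fot.isClosedImmersion hY.1
  have : IsClosedImmersion (pullback.snd j m) := MorphismProperty.pullback_snd _ _ inferInstance
  refine ⟨fot_of_comp_closed (s := pullback.snd j m) (by rw [pullback.lift_snd]; exact hZ.1),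
    pullback.lift_fst _ _ _, fun T T' t e g ht hte => ?_⟩
  obtain ⟨w, ⟨hw1, hw2⟩, hun⟩ := hZ.2.2 T T' t (e ≫ b) g ht (by rw [reassoc_of% hte])
  have hwm : e ≫ j = w ≫ m := (hY.2.2 T T' t (e ≫ b) (g ≫ a) ht (by rw [reassoc_of% hte, Category.assoc])).unique
    ⟨by rw [reassoc_of% hte, Category.assoc], by rw [Category.assoc, hY.2.1]⟩
    ⟨by rw [reassoc_of% hw1, hm1, Category.assoc], by rw [Category.assoc, hm2, hw2]⟩
  refine ⟨pullback.lift e w hwm, ⟨?_, pullback.lift_fst _ _ _⟩, fun a' ha' => ?_⟩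
  · refine pullback.hom_ext ?_ ?_
    · simp [hte]
    · simp [hw1]
  · refine pullback.hom_ext (by simpa using ha'.2) ?_
    rw [pullback.lift_snd]
    refine hun _ ⟨?_, ?_⟩
    · rw [reassoc_of% ha'.1, pullback.lift_snd]
    · rw [Category.assoc, ← hm2, ← pullback.condition_assoc, hY.2.1, reassoc_of% ha'.2]

/-- The thickening over the middle scheme is cartesian over the thickening of the middle scheme. -/
theorem isPullback_of_univ (hZ : OmegaSh.IsUnivThickening (a ≫ b) i c) (hY : OmegaSh.IsUnivThickening b j d)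
    (hm1 : i ≫ m = a ≫ j) (hm2 : m ≫ d = c) {i'' : Z ⟶ Z''} {e : Z'' ⟶ Y}
    (hZ'' : OmegaSh.IsUnivThickening a i'' e) {n : Z'' ⟶ Z'} (hn1 : i'' ≫ n = i) (hn2 : n ≫ c = e ≫ b) :
    IsPullback n e m j := by
  obtain ⟨φ, hφ1, hφ2⟩ := exists_iso hZ'' (univ_pullback hZ hY hm1 hm2)
  have hn : φ.hom ≫ pullback.snd j m = n :=
    (hZ.2.2 Z Z'' i'' (e ≫ b) (𝟙 Z) hZ''.1 (by rw [reassoc_of% hZ''.2.1, Category.id_comp])).unique
      ⟨by rw [reassoc_of% hφ1, pullback.lift_snd, Category.id_comp],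
        by rw [Category.assoc, ← hm2, ← pullback.condition_assoc, hY.2.1, reassoc_of% hφ2]⟩
      ⟨by rw [hn1, Category.id_comp], hn2⟩
  exact IsPullback.of_iso_pullback ⟨by rw [← hn, ← hφ2, Category.assoc, Category.assoc, pullback.condition]⟩
    (φ ≪≫ pullbackSymmetry j m) (by simp [← hn]) (by simp [hφ2])

end Groth.Agent.OmegaThick
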