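/-
The conormal sheaf of a universal thickening of an unramified local complete intersection is finite locally free.
-/
import Groth.Agent.OmegaThick.Chart
import Groth.Agent.Conormal.NLKer
import Groth.Agent.Conormal.Basic
import Groth.Agent.KoszulLib.SchLCI
import Groth.Agent.LocFree.Basic

set_option autoImplicit false
set_option backward.isDefEq.respectTransparency false
set_option linter.style.haveILetI false

universe u

open AlgebraicGeometry CategoryTheory CategoryTheory.Limits TopologicalSpace MvPolynomial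

noncomputable section

namespace Groth.Agent.OmegaThick

open Groth.Agent.Conormal Groth.Agent.ModDesc

variable {Z Z' : Scheme.{u}} (i : Z ⟶ Z') [IsClosedImmersion i] {W : Z'.Opens} (hW : IsAffineOpen W)
  (R : Type u) [CommRing R] [Algebra R Γ(Z', W)] [Algebra R Γ(Z, i ⁻¹ᵁ W)]
  (π : Γ(Z', W) →ₐ[R] Γ(Z, i ⁻¹ᵁ W))

include hW in
theorem finite_projective_conormal (hπ : π.toRingHom = (i.app W).hom)
    (hu : OmegaSh.IsUnivThickeningRing R Γ(Z, i ⁻¹ᵁ W) Γ(Z', W) π)
    (hl : LCI.IsLCI R Γ(Z, i ⁻¹ᵁ W)) :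
    Module.Finite Γ(Z, i ⁻¹ᵁ W) Γ(Omega.conormal i, i ⁻¹ᵁ W) ∧
      Module.Projective Γ(Z, i ⁻¹ᵁ W) Γ(Omega.conormal i, i ⁻¹ᵁ W) := by
  classical
  let B := Γ(Z, i ⁻¹ᵁ W)
  have hch : IsChart i W := ⟨hW, inferInstance⟩
  obtain ⟨hs, hsq, huniv⟩ := hu
  have hπa : ∀ x, π x = i.app W x := fun x => congr($hπ x)
  have hsq' : ∀ x y : Γ(Z', W), i.app W x = 0 → i.app W y = 0 → x * y = 0 := fun x y hx hy => by
    have h1 : x * y ∈ RingHom.ker π.toRingHom ^ 2 := by
      rw [pow_two]; exact Ideal.mul_mem_mul ((hπa x).trans hx) ((hπa y).trans hy)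
    rwa [hsq, Ideal.mem_bot] at h1
  obtain ⟨n, ⟨G⟩⟩ := NLBC.exists_gen (hft := (KoszulLib.isLCI_iff.mp hl).1)
  let P := G.toExtension
  obtain ⟨hPf, hPp⟩ := NLBC.finite_projective_cotangent P fun Q => NLBC.kAt_generators hl G Q
  haveI := hPf
  haveI := hPp
  let e : MvPolynomial (ULift.{u} (Fin n)) R →ₐ[R] B := aeval G.val
  have he : ∀ p, algebraMap P.Ring B p = e p := fun p => G.algebraMap_apply p
  have hes : Function.Surjective e := fun b => ⟨G.σ b, G.aeval_val_σ b⟩
  let I : Ideal (MvPolynomial (ULift.{u} (Fin n)) R) := RingHom.ker e.toRingHom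
  have hI : ∀ p : P.Ring, p ∈ P.ker ↔ e p = 0 := fun p => by
    show algebraMap P.Ring B p = 0 ↔ _
    rw [he]
  have hI2 : ∀ p : P.Ring, p ∈ P.ker ^ 2 ↔ p ∈ I ^ 2 := fun p => by
    rw [show P.ker = I from Ideal.ext hI]
  let E := MvPolynomial (ULift.{u} (Fin n)) R ⧸ I ^ 2
  let eE : E →ₐ[R] B := Ideal.Quotient.liftₐ (I ^ 2) e fun a ha => Ideal.pow_le_self two_ne_zero ha
  have heE : Function.Surjective eE := fun b => by
    obtain ⟨p, rfl⟩ := hes b
    exact ⟨Ideal.Quotient.mk _ p, rfl⟩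
  have hEsq : RingHom.ker eE.toRingHom ^ 2 = ⊥ := by
    have : RingHom.ker eE.toRingHom = I.map (Ideal.Quotient.mk (I ^ 2)) := by
      refine le_antisymm (fun z hz => ?_) (Ideal.map_le_iff_le_comap.mpr fun x hx => hx)
      obtain ⟨x, rfl⟩ := Ideal.Quotient.mk_surjective z
      exact Ideal.mem_map_of_mem _ hz
    rw [this, ← Ideal.map_pow, Ideal.map_quotient_self]
  -- the two maps
  let q := Ideal.quotientKerAlgEquivOfSurjective heE
  obtain ⟨v, hv, -⟩ := huniv E (RingHom.ker eE.toRingHom) hEsq q.symm.toAlgHom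
  have hv' : ∀ x, eE (v x) = π x := fun x => by
    have h1 : q (Ideal.Quotient.mk _ (v x)) = q (q.symm (π x)) := congrArg q congr($hv x)
    rw [q.apply_symm_apply] at h1
    exact h1
  choose lft hlft using hs
  let w₀ : MvPolynomial (ULift.{u} (Fin n)) R →ₐ[R] Γ(Z', W) := aeval fun s => lft (G.val s)
  have hw₀ : ∀ p, π (w₀ p) = e p := fun p => congr($(show π.comp w₀ = e from algHom_ext fun s => by
    rw [AlgHom.comp_apply, aeval_X, hlft]
    exact (aeval_X _ _).symm) p)
  have hw₀I : I ^ 2 ≤ RingHom.ker w₀.toRingHom := by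
    rw [pow_two, Ideal.mul_le]
    intro a ha b hb
    show w₀ (a * b) = 0
    rw [map_mul]
    exact hsq' _ _ (by rw [← hπa, hw₀]; exact ha) (by rw [← hπa, hw₀]; exact hb)
  let w : E →ₐ[R] Γ(Z', W) := Ideal.Quotient.liftₐ (I ^ 2) w₀ fun a ha => hw₀I ha
  have hwv : ∀ x, w (v x) = x := by
    have hker : RingHom.ker π.toRingHom ^ 2 = ⊥ := hsq
    let πq : ((Γ(Z', W) : Type u) ⧸ RingHom.ker π.toRingHom) ≃ₐ[R] B :=
      Ideal.quotientKerAlgEquivOfSurjective (f := π) fun b => ⟨lft b, hlft b⟩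
    have h1 := (huniv Γ(Z', W) (RingHom.ker π.toRingHom) hker πq.symm.toAlgHom).unique
      (y₁ := w.comp v) (y₂ := AlgHom.id R _) ?_ ?_
    · exact fun x => congr($h1 x)
    · refine AlgHom.ext fun x => πq.injective ?_
      show πq (Ideal.Quotient.mk _ (w (v x))) = πq (πq.symm (π x))
      rw [πq.apply_symm_apply, ← hv' x]
      obtain ⟨p, hp⟩ := Ideal.Quotient.mk_surjective (v x)
      rw [← hp]
      exact hw₀ p
    · refine AlgHom.ext fun x => πq.injective ?_
      show πq (Ideal.Quotient.mk _ x) = πq (πq.symm (π x))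
      rw [πq.apply_symm_apply]
      rfl
  -- from the conormal module to the cotangent module
  have hlift : ∀ x : Γ(ClSub.idealMod i.ker, W), ∃ k : P.ker,
      Ideal.Quotient.mk (I ^ 2) (k : P.Ring) = v (OmegaSh.idealSect i.ker W x) := by
    intro x
    obtain ⟨p, hp⟩ := Ideal.Quotient.mk_surjective (v (OmegaSh.idealSect i.ker W x))
    refine ⟨⟨p, (hI p).mpr ?_⟩, hp⟩
    have h1 := hv' (OmegaSh.idealSect i.ker W x)
    rw [← hp, hπa, app_idealSect] at h1
    exact h1
  choose kk hkk using hlift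
  have hkwell : ∀ (x : Γ(ClSub.idealMod i.ker, W)) (k : P.ker),
      Ideal.Quotient.mk (I ^ 2) (k : P.Ring) = v (OmegaSh.idealSect i.ker W x) →
        Algebra.Extension.Cotangent.mk k = Algebra.Extension.Cotangent.mk (kk x) := by
    intro x k hk
    rw [Algebra.Extension.Cotangent.mk_eq_mk_iff_sub_mem, hI2]
    exact (Ideal.Quotient.mk_eq_mk_iff_sub_mem _ _).mp (hk.trans (hkk x).symm)
  let f : Γ(ClSub.idealMod i.ker, W) →+ P.Cotangent := AddMonoidHom.mk'
    (fun x => Algebra.Extension.Cotangent.mk (kk x)) fun x y => by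
      rw [← map_add, hkwell (x + y) (kk x + kk y) (by
        rw [Submodule.coe_add, map_add, map_add, map_add]
        exact congrArg₂ (· + ·) (hkk x) (hkk y))]
  obtain ⟨s, hsF⟩ := exists_linearMap i hch f fun a x => by
    obtain ⟨pa, hpa⟩ := Ideal.Quotient.mk_surjective (v a)
    have hpa' : algebraMap P.Ring B pa = i.app W a := by
      rw [he, ← hπa, ← hv', ← hpa]; rfl
    show Algebra.Extension.Cotangent.mk (kk (a • x)) = i.app W a • Algebra.Extension.Cotangent.mk (kk x)
    rw [← hpa', algebraMap_smul, ← map_smul]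
    refine (hkwell _ _ ?_).symm
    rw [idealSect_smul, map_mul, ← hpa, ← hkk x]
    exact map_mul _ _ _
  -- and back
  have hback : ∀ k : P.ker, ∃ x : Γ(ClSub.idealMod i.ker, W), OmegaSh.idealSect i.ker W x = w₀ (k : P.Ring) := by
    intro k
    refine exists_idealSect i W _ ?_
    rw [← hπa, hw₀]
    exact (hI _).mp k.2
  choose bk hbk using hback
  have hbkwell : ∀ k k' : P.ker, Algebra.Extension.Cotangent.mk k = Algebra.Extension.Cotangent.mk k' →
      OmegaSh.conormalSect i W (bk k) = OmegaSh.conormalSect i W (bk k') := by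
    intro k k' h
    rw [Algebra.Extension.Cotangent.mk_eq_mk_iff_sub_mem, hI2] at h
    congr 1
    refine idealSect_injective _ _ ?_
    rw [hbk, hbk, ← sub_eq_zero, ← map_sub]
    exact hw₀I h
  choose pre hpre using Algebra.Extension.Cotangent.mk_surjective (P := P)
  let r : P.Cotangent →ₗ[B] Γ(Omega.conormal i, i ⁻¹ᵁ W) :=
    { toFun := fun c => OmegaSh.conormalSect i W (bk (pre c))
      map_add' := fun c c' => by
        rw [hbkwell (pre (c + c')) (pre c + pre c') (by rw [map_add, hpre, hpre, hpre]), ← map_add]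
        congr 1
        exact idealSect_injective _ _ (by rw [map_add, hbk, hbk, hbk, Submodule.coe_add, map_add])
      map_smul' := fun b c => by
        obtain ⟨p, rfl⟩ := P.algebraMap_surjective b
        rw [hbkwell (pre (algebraMap P.Ring B p • c)) (p • pre c) (by rw [map_smul, hpre, hpre, algebraMap_smul])]
        have h1 : bk (p • pre c) = w₀ p • bk (pre c) := idealSect_injective _ _ (by
          rw [idealSect_smul, hbk, hbk]; exact map_mul _ _ _)
        rw [h1, conormalSect_smul, RingHom.id_apply]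
        congr 1
        rw [← hπa, hw₀, he] }
  have hrs : r.comp s = LinearMap.id := by
    refine LinearMap.ext fun c => ?_
    obtain ⟨x, rfl⟩ := conormalSect_surjective i hch c
    show r (s _) = _
    rw [hsF]
    show OmegaSh.conormalSect i W (bk (pre (Algebra.Extension.Cotangent.mk (kk x)))) = OmegaSh.conormalSect i W x
    rw [hbkwell _ (kk x) (hpre _)]
    congr 1
    refine idealSect_injective _ _ ?_
    rw [hbk, ← hwv (OmegaSh.idealSect i.ker W x), ← hkk x]
    rfl
  exact ⟨Module.Finite.of_surjective r fun c => ⟨s c, congr($hrs c)⟩, Module.Projective.of_split s r hrs⟩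

theorem isFinLocFree_conormal_univ {X Y X' : Scheme.{u}} (f : X ⟶ Y) (hf : ∀ x : X, Synt.IsKoszulAt f x)
    (i : X ⟶ X') (h' : X' ⟶ Y) (hu : OmegaSh.IsUnivThickening f i h') :
    FlatMod.IsFinLocFree (Omega.conormal i) := by
  haveI := Fot.isClosedImmersion hu.1
  refine LocFree.isFinLocFree_of_affine_projective (isQCoh_conormal i) fun x => ?_
  obtain ⟨O, hO, hxO, -⟩ := exists_isAffineOpen_mem_and_subset (X := Y) (x := h' (i x)) (U := ⊤) trivial
  obtain ⟨W, hW, hxW, hWO⟩ := exists_isAffineOpen_mem_and_subset (X := X') (x := i x) (U := h' ⁻¹ᵁ O) hxO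
  have eV : i ⁻¹ᵁ W ≤ f ⁻¹ᵁ O := by
    rw [← hu.2.1, Scheme.Hom.comp_preimage]; exact i.preimage_mono hWO
  letI : Algebra Γ(Y, O) Γ(X', W) := (h'.appLE O W hWO).hom.toAlgebra
  letI : Algebra Γ(Y, O) Γ(X, i ⁻¹ᵁ W) := (f.appLE O _ eV).hom.toAlgebra
  have congrLE : ∀ {g : X ⟶ Y} (_ : g = f) (e1 : i ⁻¹ᵁ W ≤ g ⁻¹ᵁ O),
      g.appLE O (i ⁻¹ᵁ W) e1 = f.appLE O (i ⁻¹ᵁ W) eV := by
    rintro g rfl _; rfl
  let π : Γ(X', W) →ₐ[Γ(Y, O)] Γ(X, i ⁻¹ᵁ W) := { (i.app W).hom with
    commutes' := fun r => by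
      show i.app W (h'.appLE O W hWO r) = f.appLE O _ eV r
      rw [Scheme.Hom.app_eq_appLE, ← ConcreteCategory.comp_apply, Scheme.Hom.appLE_comp_appLE,
        congrLE hu.2.1] }
  obtain ⟨hfin, hproj⟩ := finite_projective_conormal i hW Γ(Y, O) π rfl
    (univ_ring_chart hu hW hO hWO eV rfl rfl π rfl)
    (KoszulLib.isLCI_of_isKoszulAt f ⟨O, hO⟩ ⟨_, hW.preimage i⟩ eV fun x _ => hf x)
  exact ⟨_, hW.preimage i, hxW, Module.finitePresentation_of_projective _ _, inferInstance⟩

end Groth.Agent.OmegaThick
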