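/-
Differentials of a universal thickening restricted to the thickened scheme.
-/
import Groth.Agent.OmegaThick.Chart
import Groth.Agent.OmegaLib.Etale
import Groth.Agent.Conormal.Basic

set_option autoImplicit false
set_option backward.isDefEq.respectTransparency false
set_option linter.style.haveILetI false

universe u

open AlgebraicGeometry CategoryTheory CategoryTheory.Limits TopologicalSpace TensorProduct

noncomputable section

namespace Groth.Agent.OmegaThick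

open Groth.Agent.QC Groth.Agent.ModDesc Groth.Agent.OmegaLib

lemma app_pullSectLE_map {X Y : Scheme.{u}} (q : X ⟶ Y) {M N : Y.Modules} (ψ : M ⟶ N) {U : Y.Opens}
    {V : X.Opens} (e : V ≤ q ⁻¹ᵁ U) (m : Γ(M, U)) :
    ((Scheme.Modules.pullback q).map ψ).app V (pullSectLE q M U V e m) =
      pullSectLE q N U V e (ψ.app U m) := by
  rw [pullSectLE_apply, pullSectLE_apply, ← app_res, app_pullSect]

set_option maxHeartbeats 1600000 in
theorem isIso_pullback_diffCompat {Z X S Z' : Scheme.{u}} (h : Z ⟶ X) (q : X ⟶ S) (i : Z ⟶ Z') (h' : Z' ⟶ X)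
    (hu : OmegaSh.IsUnivThickening h i h') (ΩX : X.Modules) (dX : OmegaSh.Der q ΩX)
    (hdX : OmegaSh.IsUniversal dX) (ΩZ' : Z'.Modules) (dZ' : OmegaSh.Der (h' ≫ q) ΩZ')
    (hdZ' : OmegaSh.IsUniversal dZ') (c : (Scheme.Modules.pullback h').obj ΩX ⟶ ΩZ')
    (hc : OmegaSh.IsDiffCompat h' dX dZ' c) : IsIso ((Scheme.Modules.pullback i).map c) := by
  haveI := Fot.isClosedImmersion hu.1
  have hex : ∀ z : Z, ∃ (V : S.Opens) (U : X.Opens) (W : Z'.Opens), IsAffineOpen V ∧ IsAffineOpen U ∧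
      IsAffineOpen W ∧ U ≤ q ⁻¹ᵁ V ∧ W ≤ h' ⁻¹ᵁ U ∧ z ∈ i ⁻¹ᵁ W := by
    intro z
    obtain ⟨V, hV, hzV, -⟩ := exists_isAffineOpen_mem_and_subset (X := S) (x := q (h' (i z))) (U := ⊤) trivial
    obtain ⟨U, hU, hzU, hUV⟩ := exists_isAffineOpen_mem_and_subset (X := X) (x := h' (i z)) (U := q ⁻¹ᵁ V) hzV
    obtain ⟨W, hW, hzW, hWU⟩ := exists_isAffineOpen_mem_and_subset (X := Z') (x := i z) (U := h' ⁻¹ᵁ U) hzU
    exact ⟨V, U, W, hV, hU, hW, hUV, hWU, hzW⟩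
  choose V U W hV hU hW eq eh hmem using hex
  haveI hQ1 : Coh.IsQCoh ((Scheme.Modules.pullback h').obj ΩX) := isQCoh_pullback h' (isQCoh_of_isUniversal hdX)
  haveI hQ2 : Coh.IsQCoh ΩZ' := isQCoh_of_isUniversal hdZ'
  refine isIso_of_affine_cover (isQCoh_pullback i hQ1) (isQCoh_pullback i hQ2) _ (fun z => i ⁻¹ᵁ W z)
    (fun z => (hW z).preimage i) (fun z => ⟨z, hmem z⟩) fun z => ?_
  have e' : W z ≤ (h' ≫ q) ⁻¹ᵁ V z := (eh z).trans (h'.preimage_mono (eq z))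
  have eV : i ⁻¹ᵁ W z ≤ h ⁻¹ᵁ U z := by
    rw [← hu.2.1, Scheme.Hom.comp_preimage]; exact i.preimage_mono (eh z)
  have w : ∀ r, h'.appLE (U z) (W z) (eh z) (q.appLE (V z) (U z) (eq z) r) =
      (h' ≫ q).appLE (V z) (W z) e' (RingHom.id Γ(S, V z) r) := fun r => by
    rw [← ConcreteCategory.comp_apply, Scheme.Hom.appLE_comp_appLE]
    rfl
  letI : Algebra Γ(S, V z) Γ(X, U z) := (q.appLE (V z) (U z) (eq z)).hom.toAlgebra
  letI : Algebra Γ(S, V z) Γ(Z', W z) := ((h' ≫ q).appLE (V z) (W z) e').hom.toAlgebra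
  letI : Algebra Γ(X, U z) Γ(Z', W z) := (h'.appLE (U z) (W z) (eh z)).hom.toAlgebra
  letI : Algebra Γ(X, U z) Γ(Z, i ⁻¹ᵁ W z) := (h.appLE (U z) _ eV).hom.toAlgebra
  letI : Algebra Γ(Z', W z) Γ(Z, i ⁻¹ᵁ W z) := (i.appLE (W z) (i ⁻¹ᵁ W z) le_rfl).hom.toAlgebra
  haveI : IsScalarTower Γ(S, V z) Γ(X, U z) Γ(Z', W z) := IsScalarTower.of_algebraMap_eq fun r => (w r).symm
  have congrLE : ∀ {g : Z ⟶ X} (_ : g = h) (e1 : i ⁻¹ᵁ W z ≤ g ⁻¹ᵁ U z),
      g.appLE (U z) (i ⁻¹ᵁ W z) e1 = h.appLE (U z) (i ⁻¹ᵁ W z) eV := by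
    rintro g rfl _; rfl
  haveI : IsScalarTower Γ(X, U z) Γ(Z', W z) Γ(Z, i ⁻¹ᵁ W z) := IsScalarTower.of_algebraMap_eq fun r => by
    show h.appLE (U z) _ eV r = i.appLE (W z) _ le_rfl (h'.appLE (U z) (W z) (eh z) r)
    rw [← ConcreteCategory.comp_apply, Scheme.Hom.appLE_comp_appLE, congrLE hu.2.1]
  have hring := univ_ring_chart hu (hW z) (hU z) (eh z) eV rfl rfl
    (IsScalarTower.toAlgHom Γ(X, U z) Γ(Z', W z) Γ(Z, i ⁻¹ᵁ W z)) (by
      show (i.appLE (W z) _ le_rfl).hom = _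
      rw [Scheme.Hom.app_eq_appLE])
  have hbij := bijective_baseChange_of_univ Γ(S, V z) Γ(X, U z) Γ(Z, i ⁻¹ᵁ W z) Γ(Z', W z) hring
  obtain ⟨L₀, L', hL, -, -⟩ := exists_coords hdX hdZ' hc (hU z) (hV z) (hW z) (hV z) (eq z) e' (eh z)
    (RingHom.id _) w
  let cl : Γ((Scheme.Modules.pullback h').obj ΩX, W z) →ₗ[Γ(Z', W z)] Γ(ΩZ', W z) :=
    { toFun := c.app (W z), map_add' := map_add _, map_smul' := fun r x => Scheme.Modules.Hom.app_smul c r x }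
  have hcl : cl = L'.symm.toLinearMap ∘ₗ
      (KaehlerDifferential.mapBaseChange Γ(S, V z) Γ(X, U z) Γ(Z', W z)) ∘ₗ L₀.toLinearMap := by
    refine LinearMap.ext fun m => L'.injective ?_
    show L' (c.app (W z) m) = L' (L'.symm _)
    rw [L'.apply_symm_apply, hL]
    show _ = KaehlerDifferential.mapBaseChange _ _ _ (L₀ m)
    induction L₀ m with
    | zero => simp
    | add a b ha hb => simp only [map_add, ha, hb]
    | tmul x y => rw [LinearMap.liftBaseChange_tmul, KaehlerDifferential.mapBaseChange_tmul]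
  have hclb : Function.Bijective (cl.baseChange Γ(Z, i ⁻¹ᵁ W z)) := by
    rw [hcl, LinearMap.baseChange_comp, LinearMap.baseChange_comp]
    exact (((L'.symm).baseChange Γ(Z', W z) Γ(Z, i ⁻¹ᵁ W z)).bijective).comp
      (hbij.comp ((L₀.baseChange Γ(Z', W z) Γ(Z, i ⁻¹ᵁ W z)).bijective))
  obtain ⟨Φ₁, hΦ₁⟩ := exists_bijective_liftBaseChange i ((Scheme.Modules.pullback h').obj ΩX) (hW z)
    ((hW z).preimage i) le_rfl
  obtain ⟨Φ₂, hΦ₂⟩ := exists_bijective_liftBaseChange i ΩZ' (hW z) ((hW z).preimage i) le_rfl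
  have key : ∀ x, ((Scheme.Modules.pullback i).map c).app (i ⁻¹ᵁ W z) (Φ₁ x) =
      Φ₂ (cl.baseChange Γ(Z, i ⁻¹ᵁ W z) x) := by
    intro x
    induction x with
    | zero => simp
    | add a b ha hb => simp only [map_add, ha, hb]
    | tmul r s =>
      rw [LinearMap.baseChange_tmul, show r ⊗ₜ[Γ(Z', W z)] s = r • ((1 : Γ(Z, i ⁻¹ᵁ W z)) ⊗ₜ[Γ(Z', W z)] s) by
          rw [TensorProduct.smul_tmul', smul_eq_mul, mul_one],
        show r ⊗ₜ[Γ(Z', W z)] cl s = r • ((1 : Γ(Z, i ⁻¹ᵁ W z)) ⊗ₜ[Γ(Z', W z)] cl s) by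
          rw [TensorProduct.smul_tmul', smul_eq_mul, mul_one],
        LinearEquiv.map_smul, LinearEquiv.map_smul, hΦ₁, hΦ₂, Scheme.Modules.Hom.app_smul, app_pullSectLE_map]
      rfl
  have hfun : (fun m => ((Scheme.Modules.pullback i).map c).app (i ⁻¹ᵁ W z) m) =
      Φ₂ ∘ cl.baseChange Γ(Z, i ⁻¹ᵁ W z) ∘ Φ₁.symm := funext fun m => by
    rw [Function.comp_apply, Function.comp_apply, ← key, Φ₁.apply_symm_apply]
  show Function.Bijective (fun m => ((Scheme.Modules.pullback i).map c).app (i ⁻¹ᵁ W z) m)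
  rw [hfun]
  exact Φ₂.bijective.comp (hclb.comp Φ₁.symm.bijective)

end Groth.Agent.OmegaThick
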