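/-
Left exactness of the conormal sequence of universal thickenings for a local complete intersection.
-/
import Groth.Agent.OmegaThick.Props
import Groth.Agent.Conormal.NLKer

set_option autoImplicit false
set_option backward.isDefEq.respectTransparency false
set_option linter.style.haveILetI false

universe u

open TensorProduct MvPolynomial

namespace Groth.Agent.OmegaThick

open KoszulLib Wiebe

section koszul

variable {Q Q₀ : Type u} [CommRing Q] [CommRing Q₀] (φ : Q →+* Q₀)

theorem exists_pow_trivRel {g : Q₀} {n : ℕ} {h : Fin n → Q₀}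
    (hac : Acyclic (algebraMap Q₀ (Localization.Away g) ∘ h)) {r : Fin n → Q₀} (hr : ∑ i, r i * h i = 0) :
    ∃ k : ℕ, g ^ k • r ∈ trivRel h := by
  classical
  let S := Localization.Away g
  let f := algebraMap Q₀ S
  let N : Submodule Q₀ (Fin n → S) :=
    { carrier := {w | ∃ k : ℕ, ∃ v ∈ trivRel h, f (g ^ k) • w = f ∘ v}
      zero_mem' := ⟨0, 0, zero_mem _, by ext i; simp [f]⟩
      add_mem' := by
        rintro w w' ⟨k, v, hv, hw⟩ ⟨k', v', hv', hw'⟩
        refine ⟨k + k', g ^ k' • v + g ^ k • v', add_mem (Submodule.smul_mem _ _ hv) (Submodule.smul_mem _ _ hv'), ?_⟩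
        funext i
        have h1 := congrFun hw i
        have h2 := congrFun hw' i
        simp only [Pi.smul_apply, smul_eq_mul, Function.comp_apply] at h1 h2
        simp only [Pi.smul_apply, smul_eq_mul, Function.comp_apply, Pi.add_apply, map_add, map_mul, pow_add]
        linear_combination f (g ^ k') * h1 + f (g ^ k) * h2
      smul_mem' := by
        rintro c w ⟨k, v, hv, hw⟩
        refine ⟨k, c • v, Submodule.smul_mem _ _ hv, ?_⟩
        funext i
        have h1 := congrFun hw i
        simp only [Pi.smul_apply, smul_eq_mul, Function.comp_apply] at h1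
        simp only [Function.comp_apply, Pi.smul_apply, smul_eq_mul, map_mul]
        rw [Algebra.smul_def]
        linear_combination f c * h1 }
  have hmem : ∀ w ∈ trivRel (f ∘ h), w ∈ N := by
    intro w hw
    induction hw using Submodule.span_induction with
    | mem w hw =>
      obtain ⟨p, q, rfl⟩ := hw
      refine ⟨0, Pi.single p (h q) - Pi.single q (h p), Submodule.subset_span ⟨p, q, rfl⟩, ?_⟩
      funext i
      simp [Pi.single_apply, apply_ite f]
    | zero => exact zero_mem _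
    | add w w' _ _ h1 h2 => exact add_mem h1 h2
    | smul c w _ h1 =>
      obtain ⟨⟨a, ⟨_, m, rfl⟩⟩, hc⟩ := IsLocalization.surj (Submonoid.powers g) c
      simp only at hc
      obtain ⟨k, v, hv, hw⟩ := h1
      refine ⟨k + m, a • v, Submodule.smul_mem _ _ hv, ?_⟩
      funext i
      have h1 := congrFun hw i
      simp only [Pi.smul_apply, smul_eq_mul, Function.comp_apply] at h1
      simp only [Pi.smul_apply, smul_eq_mul, Function.comp_apply, map_mul, pow_add]
      rw [show f a = c * f (g ^ m) from hc.symm]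
      linear_combination f (g ^ m) * c * h1
  have hrel := isH1Regular_of_acyclic hac (f ∘ r) (by
    show ∑ i, f (r i) * f (h i) = 0
    simp only [← map_mul, ← map_sum, hr, map_zero])
  obtain ⟨k, v, hv, hkv⟩ := hmem _ hrel
  have hi : ∀ i, ∃ k' : ℕ, g ^ k' * (g ^ k * r i) = g ^ k' * v i := by
    intro i
    have h1 := congrFun hkv i
    simp only [Pi.smul_apply, smul_eq_mul, Function.comp_apply, ← map_mul] at h1
    obtain ⟨⟨_, k', rfl⟩, h2⟩ := IsLocalization.exists_of_eq (M := Submonoid.powers g) h1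
    exact ⟨k', h2⟩
  choose k' hk' using hi
  refine ⟨Finset.univ.sup k' + k, ?_⟩
  have he : g ^ (Finset.univ.sup k' + k) • r = g ^ (Finset.univ.sup k') • v := by
    funext i
    obtain ⟨m, hm⟩ := Nat.exists_eq_add_of_le (Finset.le_sup (f := k') (Finset.mem_univ i))
    simp only [Pi.smul_apply, smul_eq_mul, hm]
    linear_combination g ^ m * hk' i
  rw [he]
  exact Submodule.smul_mem _ _ hv

variable {φ} (hφ : Function.Surjective φ) {K : Ideal Q₀} (hK : ∀ P : PrimeSpectrum Q₀, KAt K P.asIdeal)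
include hφ hK

/-- `a ∩ I² = a I` when `I / a` is Koszul-regular. -/
theorem inf_sq_le {x : Q} (hxa : φ x = 0) (hx : x ∈ K.comap φ ^ 2) : x ∈ RingHom.ker φ * K.comap φ := by
  classical
  let a := RingHom.ker φ
  let I := K.comap φ
  let C : Ideal Q :=
    { carrier := {q | q * x ∈ a * I}
      zero_mem' := by simp
      add_mem' := fun {p q} hp hq => by
        show (p + q) * x ∈ a * I
        rw [add_mul]; exact add_mem hp hq
      smul_mem' := fun c q hq => by
        show c * q * x ∈ a * I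
        rw [mul_assoc]; exact Ideal.mul_mem_left _ _ hq }
  suffices hC : C = ⊤ by
    have h1 : (1 : Q) ∈ C := by rw [hC]; trivial
    change (1 : Q) * x ∈ a * I at h1
    rwa [one_mul] at h1
  by_contra hne
  obtain ⟨P, hP, hCP⟩ := Ideal.exists_le_maximal C hne
  haveI := hP.isPrime
  by_cases hIP : I ≤ P
  swap
  · obtain ⟨g, hgI, hgP⟩ := SetLike.not_le_iff_exists.mp hIP
    refine hgP (hCP ?_)
    show g * x ∈ a * I
    rw [mul_comm g x]
    exact Ideal.mul_mem_mul hxa hgI
  have hker : a ≤ P := le_trans (fun y (hy : φ y = 0) => show φ y ∈ K by rw [hy]; exact K.zero_mem) hIP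
  haveI : (P.map φ).IsPrime := Ideal.map_isPrime_of_surjective hφ hker
  obtain ⟨g₀, hg₀, n, h, hk⟩ := hK ⟨P.map φ, inferInstance⟩
  obtain ⟨g, rfl⟩ := hφ g₀
  have hgP : g ∉ P := fun hg => hg₀ (Ideal.mem_map_of_mem _ hg)
  choose H hH using fun i => hφ (h i)
  have hHI : ∀ i, H i ∈ I := fun i => show φ (H i) ∈ K by rw [hH]; exact hk.1 i
  have hlift : ∀ u ∈ I, ∃ (k : ℕ) (c : Fin n → Q), g ^ k * u - ∑ i, c i * H i ∈ a := by
    intro u hu
    obtain ⟨k, hku⟩ := hk.mul_mem (show φ u ∈ K from hu)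
    obtain ⟨c₀, hc₀⟩ := Ideal.mem_span_range_iff_exists_fun.mp hku
    choose c hc using fun i => hφ (c₀ i)
    refine ⟨k, c, ?_⟩
    rw [RingHom.mem_ker, map_sub, map_sum, map_mul, map_pow, sub_eq_zero, ← hc₀]
    simp [map_mul, hc, hH]
  have hsq : ∀ y ∈ I ^ 2, ∃ (k : ℕ) (c : Fin n → Fin n → Q),
      g ^ k * y - ∑ i, (∑ j, c i j * H j) * H i ∈ a * I := by
    intro y hy
    rw [pow_two] at hy
    refine Submodule.mul_induction_on hy (fun u hu w hw => ?_) ?_
    · obtain ⟨k, c, hc⟩ := hlift u hu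
      obtain ⟨k', c', hc'⟩ := hlift w hw
      refine ⟨k + k', fun i j => c i * c' j, ?_⟩
      have hs : ∑ i, (∑ j, c i * c' j * H j) * H i = (∑ i, c i * H i) * (∑ j, c' j * H j) := by
        rw [Finset.sum_mul]
        refine Finset.sum_congr rfl fun i _ => ?_
        rw [Finset.sum_mul, Finset.mul_sum]
        exact Finset.sum_congr rfl fun j _ => by ring
      have hwI : g ^ k' * w ∈ I := I.mul_mem_left _ hw
      have hcI : ∑ i, c i * H i ∈ I := I.sum_mem fun i _ => I.mul_mem_left _ (hHI i)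
      rw [hs, show g ^ (k + k') * (u * w) - (∑ i, c i * H i) * (∑ j, c' j * H j) =
        (g ^ k * u - ∑ i, c i * H i) * (g ^ k' * w) + (g ^ k' * w - ∑ j, c' j * H j) * (∑ i, c i * H i) by ring]
      exact add_mem (Ideal.mul_mem_mul hc hwI) (Ideal.mul_mem_mul hc' hcI)
    · rintro y y' ⟨k, c, hc⟩ ⟨k', c', hc'⟩
      refine ⟨k + k', fun i j => g ^ k' * c i j + g ^ k * c' i j, ?_⟩
      have hs : ∑ i, (∑ j, (g ^ k' * c i j + g ^ k * c' i j) * H j) * H i =
          g ^ k' * (∑ i, (∑ j, c i j * H j) * H i) + g ^ k * (∑ i, (∑ j, c' i j * H j) * H i) := by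
        rw [Finset.mul_sum, Finset.mul_sum, ← Finset.sum_add_distrib]
        refine Finset.sum_congr rfl fun i _ => ?_
        simp only [add_mul, Finset.sum_add_distrib, mul_assoc, ← Finset.mul_sum]
      rw [hs, show g ^ (k + k') * (y + y') - (g ^ k' * (∑ i, (∑ j, c i j * H j) * H i) +
          g ^ k * (∑ i, (∑ j, c' i j * H j) * H i)) =
        g ^ k' * (g ^ k * y - ∑ i, (∑ j, c i j * H j) * H i) +
          g ^ k * (g ^ k' * y' - ∑ i, (∑ j, c' i j * H j) * H i) by ring]
      exact add_mem (Ideal.mul_mem_left _ _ hc) (Ideal.mul_mem_left _ _ hc')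
  obtain ⟨k, c, hc⟩ := hsq x hx
  let r : Fin n → Q := fun i => ∑ j, c i j * H j
  have hr0 : ∑ i, φ (r i) * h i = 0 := by
    have h1 : φ (g ^ k * x - ∑ i, r i * H i) = 0 := Ideal.mul_le_left (I := a) (J := I) hc
    rw [map_sub, map_mul, hxa, mul_zero, zero_sub, neg_eq_zero, map_sum] at h1
    simpa [map_mul, hH] using h1
  obtain ⟨k', htriv⟩ := exists_pow_trivRel hk.2.2 hr0
  have hτ : ∀ v ∈ trivRel h, ∃ τ : Fin n → Q, (∀ i, φ (τ i) = v i) ∧ ∑ i, τ i * H i = 0 := by
    intro v hv
    induction hv using Submodule.span_induction with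
    | mem v hv =>
      obtain ⟨p, q, rfl⟩ := hv
      refine ⟨Pi.single p (H q) - Pi.single q (H p), fun i => by simp [Pi.single_apply, apply_ite φ, hH], ?_⟩
      simp [Pi.single_apply, sub_mul, ite_mul, mul_sub, mul_ite, Finset.sum_sub_distrib, mul_comm]
    | zero => exact ⟨0, by simp, by simp⟩
    | add v w _ _ h1 h2 =>
      obtain ⟨τ, h1, h1'⟩ := h1
      obtain ⟨τ', h2, h2'⟩ := h2
      exact ⟨τ + τ', fun i => by simp [h1, h2], by simp [add_mul, Finset.sum_add_distrib, h1', h2']⟩
    | smul b v _ h1 =>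
      obtain ⟨τ, h1, h1'⟩ := h1
      obtain ⟨b', rfl⟩ := hφ b
      exact ⟨b' • τ, fun i => by simp [h1], by simp [mul_assoc, ← Finset.mul_sum, h1']⟩
  obtain ⟨τ, hτ1, hτ2⟩ := hτ _ htriv
  refine hgP ((hP.isPrime.mem_of_pow_mem (k' + k) (hCP ?_)))
  show g ^ (k' + k) * x ∈ a * I
  have hs : g ^ k' * ∑ i, r i * H i = ∑ i, (g ^ k' * r i - τ i) * H i := by
    simp only [sub_mul, Finset.sum_sub_distrib, hτ2, sub_zero, Finset.mul_sum, mul_assoc]
  rw [show g ^ (k' + k) * x = g ^ k' * (g ^ k * x - ∑ i, r i * H i) + g ^ k' * ∑ i, r i * H i by ring,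
    hs]
  refine add_mem (Ideal.mul_mem_left _ _ hc) (Ideal.sum_mem _ fun i _ => Ideal.mul_mem_mul ?_ (hHI i))
  rw [RingHom.mem_ker, map_sub, map_mul, map_pow, hτ1, Pi.smul_apply, smul_eq_mul, sub_self]

end koszul

variable (R A' A B' B : Type u) [CommRing R] [CommRing A'] [CommRing A] [CommRing B'] [CommRing B]
  [Algebra R A'] [Algebra R A] [Algebra R B'] [Algebra R B] [Algebra A B] [IsScalarTower R A B]
  [Algebra A' B] [IsScalarTower R A' B]

/-- `B ⊗ J → B'` is injective. -/
theorem tensor_eq_zero_of_lci (πA : A' →ₐ[R] A) (hA : OmegaSh.IsUnivThickeningRing R A A' πA)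
    (πB : B' →ₐ[R] B) (hB : OmegaSh.IsUnivThickeningRing R B B' πB) (m : A' →ₐ[R] B')
    (hAB : ∀ x, algebraMap A' B x = algebraMap A B (πA x)) (hm : ∀ x, πB (m x) = algebraMap A' B x)
    (hlci : LCI.IsLCI A B) {ι : Type*} [Fintype ι] (t : ι → RingHom.ker πA.toRingHom) (b' : ι → B')
    (h0 : ∑ k, b' k * m (t k) = 0) : ∑ k, πB (b' k) ⊗ₜ[A'] t k = 0 := by
  obtain ⟨n, ⟨G⟩⟩ := NLBC.exists_gen (hft := (KoszulLib.isLCI_iff.mp hlci).1)
  have hK := fun P => NLBC.kAt_generators hlci G P
  let σ := ULift.{u} (Fin n)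
  let Q := MvPolynomial σ A'
  let e : Q →ₐ[A'] B := aeval G.val
  let φ : Q →+* MvPolynomial σ A := MvPolynomial.map πA.toRingHom
  have hφs : Function.Surjective φ := map_surjective _ hA.1
  have he : ∀ q : Q, e q = aeval G.val (φ q) := fun q => by
    induction q using MvPolynomial.induction_on with
    | C x =>
      rw [show φ (C x) = C (πA x) from map_C _ _, aeval_C, aeval_C]
      exact hAB x
    | add p q hp hq => simp only [map_add, hp, hq]
    | mul_X p s hp =>
      rw [map_mul, map_mul, map_mul, hp, show φ (X s) = X s from map_X _ _, aeval_X, aeval_X]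
  have hes : Function.Surjective e := fun b => by
    obtain ⟨q, hq⟩ := hφs (G.σ b)
    exact ⟨q, by rw [he, hq, G.aeval_val_σ]⟩
  let I : Ideal Q := RingHom.ker e.toRingHom
  have hI : G.toExtension.ker.comap φ = I := by
    ext q
    show algebraMap G.toExtension.Ring B (φ q) = 0 ↔ e q = 0
    rw [he]
    exact ⟨fun h => (G.algebraMap_apply _).symm.trans h, fun h => (G.algebraMap_apply _).trans h⟩
  let E := Q ⧸ I ^ 2
  let Ibar : Ideal E := I.map (Ideal.Quotient.mk (I ^ 2))
  have hIbar : Ibar ^ 2 = ⊥ := by rw [← Ideal.map_pow, Ideal.map_quotient_self]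
  let θ : B → E ⧸ Ibar := fun b => Ideal.Quotient.mk Ibar (Ideal.Quotient.mk _ (Function.surjInv hes b))
  have hθ : ∀ q, Ideal.Quotient.mk Ibar (Ideal.Quotient.mk _ q) = θ (e q) := fun q => by
    rw [Ideal.Quotient.mk_eq_mk_iff_sub_mem, ← map_sub]
    refine Ideal.mem_map_of_mem _ ?_
    show e (q - _) = 0
    rw [map_sub, Function.surjInv_eq hes, sub_self]
  letI : Algebra R Q := ((algebraMap A' Q).comp (algebraMap R A')).toAlgebra
  haveI : IsScalarTower R A' Q := IsScalarTower.of_algebraMap_eq fun _ => rfl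
  let θA : B →ₐ[R] E ⧸ Ibar :=
    { toFun := θ
      map_one' := by rw [← map_one e, ← hθ, map_one, map_one]
      map_mul' := fun x y => by
        obtain ⟨x, rfl⟩ := hes x; obtain ⟨y, rfl⟩ := hes y
        rw [← map_mul, ← hθ, ← hθ, ← hθ, map_mul, map_mul]
      map_zero' := by rw [← map_zero e, ← hθ, map_zero, map_zero]
      map_add' := fun x y => by
        obtain ⟨x, rfl⟩ := hes x; obtain ⟨y, rfl⟩ := hes y
        rw [← map_add, ← hθ, ← hθ, ← hθ, map_add, map_add]
      commutes' := fun r => by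
        show θ (algebraMap R B r) = _
        rw [IsScalarTower.algebraMap_apply R A' B, ← e.commutes, ← hθ]
        rfl }
  obtain ⟨v, hv, -⟩ := hB.2.2 E Ibar hIbar θA
  have hv' : ∀ x, Ideal.Quotient.mk Ibar (v x) = θ (πB x) := fun x => congr($hv x)
  let can : A' →ₐ[R] E := (Ideal.Quotient.mkₐ R (I ^ 2)).comp (IsScalarTower.toAlgHom R A' Q)
  have hcan : ∀ x, can x = Ideal.Quotient.mk (I ^ 2) (algebraMap A' Q x) := fun x => rfl
  have hvm : v.comp m = can := by
    refine (hA.2.2 E Ibar hIbar (θA.comp (IsScalarTower.toAlgHom R A B))).unique ?_ ?_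
    · refine AlgHom.ext fun x => ?_
      show Ideal.Quotient.mk Ibar (v (m x)) = θ (algebraMap A B (πA x))
      rw [hv', hm, hAB]
    · refine AlgHom.ext fun x => ?_
      show Ideal.Quotient.mk Ibar (can x) = θ (algebraMap A B (πA x))
      rw [hcan, hθ, AlgHom.commutes, hAB]
  choose q hq using fun k => Ideal.Quotient.mk_surjective (v (b' k))
  have hqe : ∀ k, e (q k) = πB (b' k) := fun k => by
    have h1 := hv' (b' k)
    rw [← hq, hθ] at h1
    have hinj : Function.Injective θ := fun x y hxy => by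
      simp only [θ] at hxy
      rw [Ideal.Quotient.mk_eq_mk_iff_sub_mem, ← map_sub, Ideal.mem_map_iff_of_surjective _ Ideal.Quotient.mk_surjective] at hxy
      obtain ⟨z, hz, hze⟩ := hxy
      rw [Ideal.Quotient.mk_eq_mk_iff_sub_mem] at hze
      have h2 : e (z - (Function.surjInv hes x - Function.surjInv hes y)) = 0 := Ideal.pow_le_self two_ne_zero hze
      rw [map_sub, show e z = 0 from hz, zero_sub, neg_eq_zero, map_sub, Function.surjInv_eq hes,
        Function.surjInv_eq hes, sub_eq_zero] at h2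
      exact h2
    exact hinj h1
  let J : Ideal A' := RingHom.ker πA.toRingHom
  let μ : Q ⊗[A'] J →ₗ[A'] Q := (TensorProduct.rid A' Q).toLinearMap.comp ((J.subtype).lTensor Q)
  have hμi : Function.Injective μ :=
    (TensorProduct.rid A' Q).injective.comp (Module.Flat.lTensor_preserves_injective_linearMap _ J.injective_subtype)
  have hμ : ∀ p (x : J), μ (p ⊗ₜ x) = p * algebraMap A' Q x := fun p x => by
    simp [μ, Algebra.smul_def, mul_comm]
  let Θ : Q ⊗[A'] J →ₗ[A'] B ⊗[A'] J := e.toLinearMap.rTensor J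
  let z : Q ⊗[A'] J := ∑ k, q k ⊗ₜ t k
  have hμz : μ z = ∑ k, q k * algebraMap A' Q (t k) := by simp [z, map_sum, hμ]
  have hx2 : μ z ∈ I ^ 2 := by
    rw [← Ideal.Quotient.eq_zero_iff_mem, hμz, map_sum]
    have h1 := congrArg v h0
    rw [map_sum, map_zero] at h1
    rw [← h1]
    refine Finset.sum_congr rfl fun k _ => ?_
    rw [map_mul, map_mul, hq, ← hcan, ← hvm]
    rfl
  have hxa : φ (μ z) = 0 := by
    rw [hμz, map_sum]
    refine Finset.sum_eq_zero fun k _ => ?_
    rw [map_mul, MvPolynomial.algebraMap_eq, map_C, show πA.toRingHom (t k : A') = 0 from (t k).2, C_0, mul_zero]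
  have hprod : μ z ∈ RingHom.ker φ * I := by
    rw [← hI]
    exact inf_sq_le hφs hK hxa (by rw [hI]; exact hx2)
  have hrange : ∀ y ∈ RingHom.ker φ, ∃ w, μ w = y := by
    intro y hy
    have hy' : y ∈ (Ideal.map (C : A' →+* Q) J) := by
      rw [← MvPolynomial.ker_map]; exact hy
    refine Submodule.span_induction (p := fun y _ => ∃ w, μ w = y) ?_ ⟨0, map_zero _⟩ ?_ ?_ hy'
    · rintro _ ⟨x, hx, rfl⟩
      exact ⟨1 ⊗ₜ ⟨x, hx⟩, by rw [hμ, one_mul]; rfl⟩
    · rintro _ _ _ _ ⟨w, rfl⟩ ⟨w', rfl⟩; exact ⟨w + w', map_add _ _ _⟩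
    · rintro p _ hw' ⟨w, rfl⟩
      clear hw'
      refine ⟨(LinearMap.mulLeft A' p).rTensor J w, ?_⟩
      induction w with
      | zero => simp
      | tmul a x => simp [hμ, mul_assoc]
      | add a b ha hb => simp only [map_add, ha, hb, smul_add]
  have hz : ∀ y ∈ RingHom.ker φ * I, ∃ w, μ w = y ∧ Θ w = 0 := by
    intro y hy
    refine Submodule.mul_induction_on hy (fun u hu i hi => ?_) ?_
    · obtain ⟨w, rfl⟩ := hrange u hu
      clear hu
      refine ⟨(LinearMap.mulLeft A' i).rTensor J w, ?_, ?_⟩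
      · induction w with
        | zero => simp
        | tmul a x => simp only [LinearMap.rTensor_tmul, LinearMap.mulLeft_apply, hμ]; ring
        | add a b ha hb => simp only [map_add, ha, hb, add_mul]
      · induction w with
        | zero => simp
        | tmul a x => simp [Θ, show e i = 0 from hi]
        | add a b ha hb => simp only [map_add, ha, hb, add_zero]
    · rintro _ _ ⟨w, rfl, hw⟩ ⟨w', rfl, hw'⟩
      exact ⟨w + w', map_add _ _ _, by rw [map_add, hw, hw', add_zero]⟩
  obtain ⟨w, hw, hΘ⟩ := hz _ hprod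
  rw [hμi hw] at hΘ
  have : Θ z = ∑ k, e (q k) ⊗ₜ t k := by simp [Θ, z, map_sum]
  rw [this] at hΘ
  simpa [hqe] using hΘ

end Groth.Agent.OmegaThick
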