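/-
The conormal sequence of universal first order thickenings of a composite.
-/
import Groth.Agent.OmegaThick.Chart
import Groth.Agent.OmegaThick.LCIInj
import Groth.Agent.Conormal.Seq
import Groth.Agent.Conormal.BaseChange
import Groth.Agent.KoszulLib.SchLCI

set_option autoImplicit false
set_option backward.isDefEq.respectTransparency false
set_option linter.style.haveILetI false

universe u

open AlgebraicGeometry CategoryTheory CategoryTheory.Limits TopologicalSpace TensorProduct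

noncomputable section

namespace Groth.Agent.OmegaThick

open Groth.Agent.QC Groth.Agent.ModDesc Groth.Agent.Conormal

lemma isChart_of_closed {Z X : Scheme.{u}} (i : Z ⟶ X) [IsClosedImmersion i] {W : X.Opens}
    (hW : IsAffineOpen W) : IsChart i W := ⟨hW, inferInstance⟩

lemma hom_eq_zero_of_basis {Z : Scheme.{u}} {M N : Z.Modules} (f : M ⟶ N) {B : Set Z.Opens}
    (hB : IsBasisFam B) (h : ∀ V ∈ B, ∀ q, f.app V q = 0) : f = 0 := by
  refine Scheme.Modules.hom_ext _ _ fun O => ?_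
  ext q
  refine section_eq_of_locally fun z hz => ?_
  obtain ⟨V, hVB, hV, hzV⟩ := hB O z hz
  refine ⟨V, hV, hzV, ?_⟩
  rw [app_res, h V hVB, app_res]
  rfl

variable {Z Y X Y' Z' Z'' : Scheme.{u}} {i : Z ⟶ Y} {b : Y ⟶ X} {c : Z' ⟶ X} {j : Y ⟶ Y'} {d : Y' ⟶ X}
  {m : Z' ⟶ Y'} {i'' : Z ⟶ Z''} {e : Z'' ⟶ Y} {n : Z'' ⟶ Z'}

/-- An affine chart of the situation. -/
structure IsSeqChart (j : Y ⟶ Y') (d : Y' ⟶ X) (m : Z' ⟶ Y') (O : X.Opens) (U : Y'.Opens) (W : Z'.Opens) :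
    Prop where
  affineO : IsAffineOpen O
  affineU : IsAffineOpen U
  affineW : IsAffineOpen W
  leU : U ≤ d ⁻¹ᵁ O
  leW : W ≤ m ⁻¹ᵁ U

lemma isBasisFam_seqCharts (k : Z ⟶ Z') [IsClosedImmersion k] :
    IsBasisFam {V | ∃ O U W, IsSeqChart j d m O U W ∧ k ⁻¹ᵁ W = V} := by
  intro V₀ z hz
  obtain ⟨W₀, hW₀, hW₀e⟩ := k.isEmbedding.isInducing.isOpen_iff.1 V₀.isOpen
  obtain ⟨O, hO, hzO, -⟩ := exists_isAffineOpen_mem_and_subset (X := X) (x := d (m (k z))) (U := ⊤) trivial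
  obtain ⟨U, hU, hzU, hUO⟩ := exists_isAffineOpen_mem_and_subset (X := Y') (x := m (k z)) (U := d ⁻¹ᵁ O) hzO
  obtain ⟨W, hW, hzW, hWU⟩ := exists_isAffineOpen_mem_and_subset (X := Z') (x := k z)
    (U := (m ⁻¹ᵁ U) ⊓ ⟨W₀, hW₀⟩) ⟨hzU, by
      have : z ∈ ⇑k ⁻¹' W₀ := by rw [hW₀e]; exact hz
      exact this⟩
  refine ⟨_, ⟨O, U, W, ⟨hO, hU, hW, hUO, fun x hx => (hWU hx).1⟩, rfl⟩, fun x hx => ?_, hzW⟩
  have : x ∈ ⇑k ⁻¹' W₀ := (hWU hx).2
  rw [hW₀e] at this; exact this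

variable (hn1' : (i'' ≫ n) ≫ m = i ≫ j)
  {ψ₁ : (Scheme.Modules.pullback i).obj (Omega.conormal j) ⟶ Omega.conormal (i'' ≫ n)}
  {ψ₂ : (Scheme.Modules.pullback (𝟙 Z)).obj (Omega.conormal (i'' ≫ n)) ⟶ Omega.conormal i''}

section chart

variable {O : X.Opens} {U : Y'.Opens} {W : Z'.Opens} (hc : IsSeqChart j d m O U W)
include hn1' hc

lemma le_preimage : (i'' ≫ n) ⁻¹ᵁ W ≤ i ⁻¹ᵁ (j ⁻¹ᵁ U) := by
  rw [← Scheme.Hom.comp_preimage, ← hn1', Scheme.Hom.comp_preimage]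
  exact (i'' ≫ n).preimage_mono hc.leW

/-- sections of the pulled back conormal sheaf are combinations of classes -/
lemma exists_classes [IsClosedImmersion j] [IsClosedImmersion (i'' ≫ n)]
    (q : Γ((Scheme.Modules.pullback i).obj (Omega.conormal j), (i'' ≫ n) ⁻¹ᵁ W)) :
    ∃ (k : ℕ) (b' : Fin k → Γ(Z', W)) (t : Fin k → Γ(ClSub.idealMod j.ker, U)),
      q = ∑ l, (i'' ≫ n).app W (b' l) • pullSectLE i (Omega.conormal j) (j ⁻¹ᵁ U) _ (le_preimage hn1' hc)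
        (OmegaSh.conormalSect j U (t l)) := by
  haveI : Coh.IsQCoh (Omega.conormal j) := isQCoh_conormal j
  have hUA := hc.affineU.preimage j
  have hV := hc.affineW.preimage (i'' ≫ n)
  letI : Algebra Γ(Y, j ⁻¹ᵁ U) Γ(Z, (i'' ≫ n) ⁻¹ᵁ W) := (i.appLE _ _ (le_preimage hn1' hc)).hom.toAlgebra
  obtain ⟨Φ, hΦ⟩ := exists_bijective_liftBaseChange i (Omega.conormal j) hUA hV (le_preimage hn1' hc)
  obtain ⟨z, rfl⟩ := Φ.surjective q
  induction z with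
  | zero => exact ⟨0, Fin.elim0, Fin.elim0, by simp⟩
  | tmul r s =>
    obtain ⟨t, rfl⟩ := conormalSect_surjective j (isChart_of_closed j hc.affineU) s
    obtain ⟨b', rfl⟩ := (isChart_of_closed (i'' ≫ n) hc.affineW).surjective r
    refine ⟨1, fun _ => b', fun _ => t, ?_⟩
    rw [Fin.sum_univ_one, ← hΦ, ← map_smul, TensorProduct.smul_tmul', smul_eq_mul, mul_one]
  | add x y hx hy =>
    obtain ⟨k, f, t, hf⟩ := hx
    obtain ⟨k', f', t', hf'⟩ := hy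
    exact ⟨k + k', Fin.append f f', Fin.append t t', by
      rw [map_add, hf, hf', Fin.sum_univ_add]; simp⟩

variable [QuasiCompact (i'' ≫ n)]

/-- the image of the ideal of the middle thickening -/
lemma exists_image (hψ₁ : OmegaSh.IsConormalMap (i'' ≫ n) j m i ψ₁) (t : Γ(ClSub.idealMod j.ker, U)) :
    ∃ s : Γ(ClSub.idealMod (i'' ≫ n).ker, W),
      OmegaSh.idealSect (i'' ≫ n).ker W s = m.appLE U W hc.leW (OmegaSh.idealSect j.ker U t) ∧
      ψ₁.app _ (pullSectLE i (Omega.conormal j) (j ⁻¹ᵁ U) _ (le_preimage hn1' hc)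
        (OmegaSh.conormalSect j U t)) = OmegaSh.conormalSect (i'' ≫ n) W s := by
  have h0 : (i'' ≫ n).app W (m.appLE U W hc.leW (OmegaSh.idealSect j.ker U t)) = 0 := by
    rw [Scheme.Hom.app_eq_appLE, ← ConcreteCategory.comp_apply, Scheme.Hom.appLE_comp_appLE]
    have key : ∀ (f : Z ⟶ Y') (ef : (i'' ≫ n) ⁻¹ᵁ W ≤ f ⁻¹ᵁ U), i ≫ j = f →
        f.appLE U _ ef (OmegaSh.idealSect j.ker U t) = 0 := by
      rintro f ef rfl
      rw [Scheme.Hom.comp_appLE, ConcreteCategory.comp_apply, app_idealSect, map_zero]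
    exact key _ _ hn1'.symm
  obtain ⟨s, hs⟩ := exists_idealSect (i'' ≫ n) W _ h0
  exact ⟨s, hs, IsConormalMap.app_class (i'' ≫ n) j m i hψ₁ U W hc.leW _ t s hs⟩

variable [QuasiCompact i'']

theorem comp_app_eq_zero [IsClosedImmersion j] [IsClosedImmersion (i'' ≫ n)] (hsq : n ≫ m = e ≫ j)
    (hψ₁ : OmegaSh.IsConormalMap (i'' ≫ n) j m i ψ₁)
    (hψ₂ : OmegaSh.IsConormalMap i'' (i'' ≫ n) n (𝟙 Z) ψ₂)
    (q : Γ((Scheme.Modules.pullback i).obj (Omega.conormal j), (i'' ≫ n) ⁻¹ᵁ W)) :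
    ((Scheme.Modules.pullbackId Z).inv.app (Omega.conormal (i'' ≫ n)) ≫ ψ₂).app _ (ψ₁.app _ q) = 0 := by
  obtain ⟨k, b', t, rfl⟩ := exists_classes hn1' hc q
  rw [map_sum, map_sum]
  refine Finset.sum_eq_zero fun l _ => ?_
  rw [Scheme.Modules.Hom.app_smul, Scheme.Modules.Hom.app_smul]
  obtain ⟨s, hs, hs'⟩ := exists_image hn1' hc hψ₁ (t l)
  obtain ⟨s₂, hs₂⟩ := exists_idealSect_comp n i'' W s
  rw [hs', second_app hψ₂ W s s₂ hs₂]
  have h0 : n.app W (m.appLE U W hc.leW (OmegaSh.idealSect j.ker U (t l))) = 0 := by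
    rw [Scheme.Hom.app_eq_appLE, ← ConcreteCategory.comp_apply, Scheme.Hom.appLE_comp_appLE]
    have key : ∀ (f : Z'' ⟶ Y') (ef : n ⁻¹ᵁ W ≤ f ⁻¹ᵁ U), e ≫ j = f →
        f.appLE U _ ef (OmegaSh.idealSect j.ker U (t l)) = 0 := by
      rintro f ef rfl
      rw [Scheme.Hom.comp_appLE, ConcreteCategory.comp_apply, app_idealSect, map_zero]
    exact key _ _ hsq.symm
  have hz : s₂ = 0 := idealSect_injective i''.ker _ (by rw [hs₂, hs, h0, map_zero])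
  rw [hz, map_zero]
  exact smul_zero _

/-- surjectivity and exactness on a chart -/
theorem surjective_exact [IsClosedImmersion j] [IsClosedImmersion n] [IsClosedImmersion i'']
    [IsClosedImmersion (i'' ≫ n)] (hpb : IsPullback n e m j)
    (hψ₁ : OmegaSh.IsConormalMap (i'' ≫ n) j m i ψ₁)
    (hψ₂ : OmegaSh.IsConormalMap i'' (i'' ≫ n) n (𝟙 Z) ψ₂) :
    Function.Surjective (((Scheme.Modules.pullbackId Z).inv.app (Omega.conormal (i'' ≫ n)) ≫ ψ₂).app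
        ((i'' ≫ n) ⁻¹ᵁ W)) ∧
    ∀ p, ((Scheme.Modules.pullbackId Z).inv.app (Omega.conormal (i'' ≫ n)) ≫ ψ₂).app ((i'' ≫ n) ⁻¹ᵁ W) p = 0 →
      ∃ q, ψ₁.app _ q = p := by
  have hW'' := isChart_of_closed i'' (hc.affineW.preimage n)
  have hWn := isChart_of_closed n hc.affineW
  have hWk := isChart_of_closed (i'' ≫ n) hc.affineW
  constructor
  · intro q
    obtain ⟨t, rfl⟩ := conormalSect_surjective i'' hW'' q
    obtain ⟨a, ha⟩ := hWn.surjective (OmegaSh.idealSect i''.ker _ t)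
    obtain ⟨s, hs⟩ := exists_idealSect (i'' ≫ n) W a (by
      rw [Scheme.Hom.comp_app, ConcreteCategory.comp_apply]
      exact (congrArg (i''.app _) ha).trans (app_idealSect i'' _ t))
    exact ⟨_, second_app hψ₂ W s t (by rw [hs, ha])⟩
  · intro p hp
    obtain ⟨s, rfl⟩ := conormalSect_surjective (i'' ≫ n) hWk p
    obtain ⟨t, ht⟩ := exists_idealSect_comp n i'' W s
    rw [second_app hψ₂ W s t ht, conormalSect_eq_zero_iff i'' hW'', ht] at hp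
    have hK : RingHom.ker (i''.app (n ⁻¹ᵁ W)).hom = (RingHom.ker ((i'' ≫ n).app W).hom).map (n.app W).hom := by
      refine le_antisymm (fun y hy => ?_) (Ideal.map_le_iff_le_comap.mpr fun a ha => ?_)
      · obtain ⟨a, rfl⟩ := hWn.surjective y
        refine Ideal.mem_map_of_mem _ ?_
        rw [RingHom.mem_ker, Scheme.Hom.comp_app]
        exact hy
      · rw [Ideal.mem_comap, RingHom.mem_ker]
        rw [RingHom.mem_ker, Scheme.Hom.comp_app] at ha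
        exact ha
    rw [hK, ← Ideal.map_pow] at hp
    obtain ⟨y, hy, hyeq⟩ := (Ideal.mem_map_iff_of_surjective _ hWn.surjective).mp hp
    have hkn : OmegaSh.idealSect (i'' ≫ n).ker W s - y ∈
        (RingHom.ker (j.app U).hom).map (m.appLE U W hc.leW).hom := by
      rw [← ThickProp.ker_app_eq_map hpb ⟨U, hc.affineU⟩ ⟨W, hc.affineW⟩ hc.leW, RingHom.mem_ker, map_sub]
      exact sub_eq_zero.mpr hyeq.symm
    obtain ⟨sy, hsy⟩ := exists_idealSect (i'' ≫ n) W y (RingHom.mem_ker.mp (Ideal.pow_le_self two_ne_zero hy))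
    have main : ∀ x ∈ (RingHom.ker (j.app U).hom).map (m.appLE U W hc.leW).hom,
        ∃ sx qx, OmegaSh.idealSect (i'' ≫ n).ker W sx = x ∧
          ψ₁.app _ qx = OmegaSh.conormalSect (i'' ≫ n) W sx := by
      intro x hx
      refine Submodule.span_induction ?_ ?_ ?_ ?_ hx
      · rintro _ ⟨t', ht', rfl⟩
        obtain ⟨t', rfl⟩ := exists_idealSect j U t' ht'
        obtain ⟨sx, h1, h2⟩ := exists_image hn1' hc hψ₁ t'
        exact ⟨sx, _, h1, h2⟩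
      · exact ⟨0, 0, map_zero _, by rw [map_zero, map_zero]⟩
      · rintro x y _ _ ⟨s1, q1, h1, h1'⟩ ⟨s2, q2, h2, h2'⟩
        exact ⟨s1 + s2, q1 + q2, by rw [map_add, h1, h2], by rw [map_add, map_add, h1', h2']⟩
      · rintro r x _ ⟨s1, q1, h1, h1'⟩
        exact ⟨r • s1, (i'' ≫ n).app W r • q1, by rw [idealSect_smul, h1, smul_eq_mul],
          by rw [conormalSect_smul, Scheme.Modules.Hom.app_smul, h1']⟩
    obtain ⟨sx, qx, h1, h2⟩ := main _ hkn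
    have hsx : sx = s - sy := idealSect_injective _ _ (by rw [h1, map_sub, hsy])
    refine ⟨qx, ?_⟩
    rw [h2, hsx, map_sub, (conormalSect_eq_zero_iff (i'' ≫ n) hWk sy).mpr (by rw [hsy]; exact hy), sub_zero]

/-- injectivity on a chart, for a local complete intersection -/
theorem injective_of_lci (hZ : OmegaSh.IsUnivThickening (i ≫ b) (i'' ≫ n) c)
    (hY : OmegaSh.IsUnivThickening b j d) (hm2 : m ≫ d = c) (hlci : ∀ z : Z, Synt.IsKoszulAt i z)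
    (hψ₁ : OmegaSh.IsConormalMap (i'' ≫ n) j m i ψ₁) :
    Function.Injective (ψ₁.app ((i'' ≫ n) ⁻¹ᵁ W)) := by
  haveI := Fot.isClosedImmersion hY.1
  haveI := Fot.isClosedImmersion hZ.1
  refine (injective_iff_map_eq_zero (ψ₁.app ((i'' ≫ n) ⁻¹ᵁ W)).hom).mpr fun q hq => ?_
  obtain ⟨k, b', t, rfl⟩ := exists_classes hn1' hc q
  choose s hs hs' using fun l => exists_image hn1' hc hψ₁ (t l)
  change ψ₁.app _ _ = 0 at hq
  rw [map_sum] at hq
  simp only [Scheme.Modules.Hom.app_smul, hs', ← conormalSect_smul, ← map_sum] at hq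
  rw [conormalSect_eq_zero_iff _ (isChart_of_closed _ hc.affineW), Fot.ker_sq hZ.1 ⟨W, hc.affineW⟩,
    Ideal.mem_bot, map_sum] at hq
  simp only [idealSect_smul, hs] at hq
  -- the rings
  have eUA : j ⁻¹ᵁ U ≤ b ⁻¹ᵁ O := by
    rw [← hY.2.1, Scheme.Hom.comp_preimage]; exact j.preimage_mono hc.leU
  have eW : W ≤ c ⁻¹ᵁ O := by
    rw [← hm2, Scheme.Hom.comp_preimage]; exact hc.leW.trans (m.preimage_mono hc.leU)
  have eV : (i'' ≫ n) ⁻¹ᵁ W ≤ (i ≫ b) ⁻¹ᵁ O := by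
    rw [← hZ.2.1, Scheme.Hom.comp_preimage (i'' ≫ n) c]; exact (i'' ≫ n).preimage_mono eW
  have eVA := le_preimage hn1' hc
  letI : Algebra Γ(X, O) Γ(Y', U) := (d.appLE O U hc.leU).hom.toAlgebra
  letI : Algebra Γ(X, O) Γ(Y, j ⁻¹ᵁ U) := (b.appLE O _ eUA).hom.toAlgebra
  letI : Algebra Γ(X, O) Γ(Z', W) := (c.appLE O W eW).hom.toAlgebra
  letI : Algebra Γ(X, O) Γ(Z, (i'' ≫ n) ⁻¹ᵁ W) := ((i ≫ b).appLE O _ eV).hom.toAlgebra
  letI : Algebra Γ(Y, j ⁻¹ᵁ U) Γ(Z, (i'' ≫ n) ⁻¹ᵁ W) := (i.appLE _ _ eVA).hom.toAlgebra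
  letI : Algebra Γ(Y', U) Γ(Z, (i'' ≫ n) ⁻¹ᵁ W) := ((i.appLE _ _ eVA).hom.comp (j.app U).hom).toAlgebra
  have congrLE : ∀ {P Q : Scheme.{u}} {f g : P ⟶ Q} (_ : f = g) (U₁ : Q.Opens) (V₁ : P.Opens)
      (e1 : V₁ ≤ f ⁻¹ᵁ U₁) (e2 : V₁ ≤ g ⁻¹ᵁ U₁), f.appLE U₁ V₁ e1 = g.appLE U₁ V₁ e2 := by
    rintro P Q f g rfl _ _ _ _; rfl
  have wA : ∀ r, j.app U (d.appLE O U hc.leU r) = b.appLE O _ eUA r := fun r => by
    rw [Scheme.Hom.app_eq_appLE, ← ConcreteCategory.comp_apply, Scheme.Hom.appLE_comp_appLE,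
      congrLE hY.2.1 O _ _ eUA]
  have wB : ∀ r, (i'' ≫ n).app W (c.appLE O W eW r) = (i ≫ b).appLE O _ eV r := fun r => by
    rw [Scheme.Hom.app_eq_appLE, ← ConcreteCategory.comp_apply, Scheme.Hom.appLE_comp_appLE,
      congrLE hZ.2.1 O _ _ eV]
  have wM : ∀ r, m.appLE U W hc.leW (d.appLE O U hc.leU r) = c.appLE O W eW r := fun r => by
    rw [← ConcreteCategory.comp_apply, Scheme.Hom.appLE_comp_appLE, congrLE hm2 O _ _ eW]
  have wI : ∀ r, i.appLE _ _ eVA (b.appLE O _ eUA r) = (i ≫ b).appLE O _ eV r := fun r => by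
    rw [← ConcreteCategory.comp_apply, Scheme.Hom.appLE_comp_appLE]
  haveI : IsScalarTower Γ(X, O) Γ(Y, j ⁻¹ᵁ U) Γ(Z, (i'' ≫ n) ⁻¹ᵁ W) :=
    IsScalarTower.of_algebraMap_eq fun r => (wI r).symm
  haveI : IsScalarTower Γ(X, O) Γ(Y', U) Γ(Z, (i'' ≫ n) ⁻¹ᵁ W) :=
    IsScalarTower.of_algebraMap_eq fun r => by
      show _ = i.appLE _ _ eVA (j.app U (d.appLE O U hc.leU r))
      rw [wA, wI]; rfl
  let πA : Γ(Y', U) →ₐ[Γ(X, O)] Γ(Y, j ⁻¹ᵁ U) := { (j.app U).hom with commutes' := wA }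
  let πB : Γ(Z', W) →ₐ[Γ(X, O)] Γ(Z, (i'' ≫ n) ⁻¹ᵁ W) := { ((i'' ≫ n).app W).hom with commutes' := wB }
  let mA : Γ(Y', U) →ₐ[Γ(X, O)] Γ(Z', W) := { (m.appLE U W hc.leW).hom with commutes' := wM }
  have hA := univ_ring_chart hY hc.affineU hc.affineO hc.leU eUA rfl rfl πA rfl
  have hB := univ_ring_chart hZ hc.affineW hc.affineO eW eV rfl rfl πB rfl
  have hm : ∀ x, πB (mA x) = algebraMap Γ(Y', U) Γ(Z, (i'' ≫ n) ⁻¹ᵁ W) x := fun x => by
    show (i'' ≫ n).app W (m.appLE U W hc.leW x) = i.appLE _ _ eVA (j.app U x)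
    rw [Scheme.Hom.app_eq_appLE, ← ConcreteCategory.comp_apply, Scheme.Hom.appLE_comp_appLE,
      Scheme.Hom.app_eq_appLE, ← ConcreteCategory.comp_apply, Scheme.Hom.appLE_comp_appLE,
      congrLE hn1' U _ _ _]
  have hL : LCI.IsLCI Γ(Y, j ⁻¹ᵁ U) Γ(Z, (i'' ≫ n) ⁻¹ᵁ W) :=
    KoszulLib.isLCI_of_isKoszulAt i ⟨_, hc.affineU.preimage j⟩ ⟨_, hc.affineW.preimage (i'' ≫ n)⟩ eVA
      fun x _ => hlci x
  let tt : Fin k → RingHom.ker πA.toRingHom := fun l =>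
    ⟨OmegaSh.idealSect j.ker U (t l), app_idealSect j U (t l)⟩
  have h0 : ∑ l, b' l * mA (tt l) = 0 := hq
  have key := tensor_eq_zero_of_lci Γ(X, O) Γ(Y', U) Γ(Y, j ⁻¹ᵁ U) Γ(Z', W) Γ(Z, (i'' ≫ n) ⁻¹ᵁ W)
    πA hA πB hB mA (fun _ => rfl) hm hL tt b' h0
  -- the map from the tensor product
  let P := Γ((Scheme.Modules.pullback i).obj (Omega.conormal j), (i'' ≫ n) ⁻¹ᵁ W)
  letI : Module Γ(Y', U) P := Module.compHom P (algebraMap Γ(Y', U) Γ(Z, (i'' ≫ n) ⁻¹ᵁ W))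
  haveI : IsScalarTower Γ(Y', U) Γ(Z, (i'' ≫ n) ⁻¹ᵁ W) P :=
    IsScalarTower.of_algebraMap_smul fun _ _ => rfl
  choose g hg using fun x : RingHom.ker πA.toRingHom => exists_idealSect j U x.1 x.2
  let f : RingHom.ker πA.toRingHom →ₗ[Γ(Y', U)] P :=
    { toFun := fun x => pullSectLE i (Omega.conormal j) (j ⁻¹ᵁ U) _ eVA (OmegaSh.conormalSect j U (g x))
      map_add' := fun x y => by
        rw [← map_add, ← map_add, show g (x + y) = g x + g y from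
          idealSect_injective _ _ (by rw [map_add, hg, hg, hg]; rfl)]
      map_smul' := fun r x => by
        rw [show g (r • x) = r • g x from idealSect_injective _ _ (by rw [idealSect_smul, hg, hg]; rfl),
          conormalSect_smul, pullSectLE_smul]
        rfl }
  have h1 := congrArg (f.liftBaseChange Γ(Z, (i'' ≫ n) ⁻¹ᵁ W)) key
  rw [map_sum, map_zero] at h1
  rw [← h1]
  refine Finset.sum_congr rfl fun l _ => ?_
  rw [LinearMap.liftBaseChange_tmul]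
  show _ = (i'' ≫ n).app W (b' l) • pullSectLE i (Omega.conormal j) (j ⁻¹ᵁ U) _ eVA
    (OmegaSh.conormalSect j U (g (tt l)))
  rw [show g (tt l) = t l from idealSect_injective _ _ (hg _)]

end chart

end Groth.Agent.OmegaThick

namespace Groth.Agent.OmegaThick

open Groth.Agent.QC Groth.Agent.ModDesc Groth.Agent.Conormal

variable {Z Y X Y' Z' Z'' : Scheme.{u}} {i : Z ⟶ Y} {b : Y ⟶ X} {c : Z' ⟶ X} {j : Y ⟶ Y'} {d : Y' ⟶ X}
  {m : Z' ⟶ Y'} {i'' : Z ⟶ Z''} {e : Z'' ⟶ Y} {n : Z'' ⟶ Z'}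
  {ψ₁ : (Scheme.Modules.pullback i).obj (Omega.conormal j) ⟶ Omega.conormal (i'' ≫ n)}
  {ψ₂ : (Scheme.Modules.pullback (𝟙 Z)).obj (Omega.conormal (i'' ≫ n)) ⟶ Omega.conormal i''}

/-- The conormal sequence of a composite of formally unramified morphisms. -/
theorem exact_conormal_univ (hZ : OmegaSh.IsUnivThickening (i ≫ b) (i'' ≫ n) c)
    (hY : OmegaSh.IsUnivThickening b j d) (hm1 : (i'' ≫ n) ≫ m = i ≫ j) (hm2 : m ≫ d = c)
    (hZ'' : OmegaSh.IsUnivThickening i i'' e) (hn2 : n ≫ c = e ≫ b)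
    (hψ₁ : OmegaSh.IsConormalMap (i'' ≫ n) j m i ψ₁)
    (hψ₂ : OmegaSh.IsConormalMap i'' (i'' ≫ n) n (𝟙 Z) ψ₂) :
    ∃ w : (Scheme.Modules.pullback (𝟙 Z)).map ψ₁ ≫ ψ₂ = 0,
      (ShortComplex.mk _ _ w).Exact ∧ Epi ψ₂ ∧
        ((∀ z : Z, Synt.IsKoszulAt i z) → (ShortComplex.mk _ _ w).ShortExact) := by
  haveI := Fot.isClosedImmersion hY.1
  haveI := Fot.isClosedImmersion hZ.1
  haveI := Fot.isClosedImmersion hZ''.1
  have hpb := isPullback_of_univ hZ hY hm1 hm2 hZ'' rfl hn2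
  haveI : IsClosedImmersion n := ThickProp.isClosedImmersion_left hpb
  let inv := (Scheme.Modules.pullbackId Z).inv
  let ψ := inv.app (Omega.conormal (i'' ≫ n)) ≫ ψ₂
  have hB := isBasisFam_seqCharts (j := j) (d := d) (m := m) (i'' ≫ n)
  have w' : ψ₁ ≫ ψ = 0 := hom_eq_zero_of_basis _ hB (by
    rintro _ ⟨O, U, W, hc, rfl⟩ q
    exact comp_app_eq_zero hm1 hc hpb.w hψ₁ hψ₂ q)
  have hnat : ψ₁ ≫ inv.app (Omega.conormal (i'' ≫ n)) = inv.app _ ≫ (Scheme.Modules.pullback (𝟙 Z)).map ψ₁ :=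
    inv.naturality ψ₁
  have w : (Scheme.Modules.pullback (𝟙 Z)).map ψ₁ ≫ ψ₂ = 0 := by
    rw [← cancel_epi (inv.app ((Scheme.Modules.pullback i).obj (Omega.conormal j))), ← Category.assoc, ← hnat,
      Category.assoc, comp_zero]
    exact w'
  let S' := ShortComplex.mk ψ₁ ψ w'
  let iso : S' ≅ ShortComplex.mk _ _ w :=
    ShortComplex.isoMk ((Scheme.Modules.pullbackId Z).symm.app _) ((Scheme.Modules.pullbackId Z).symm.app _)
      (Iso.refl _) hnat.symm (Category.comp_id _).symm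
  have hex : S'.Exact := exact_of_basis _ hB (by
    rintro _ ⟨O, U, W, hc, rfl⟩
    exact (surjective_exact hm1 hc hpb hψ₁ hψ₂).2)
  haveI hepi : Epi ψ := epi_of_basis ψ hB (by
    rintro _ ⟨O, U, W, hc, rfl⟩
    exact (surjective_exact hm1 hc hpb hψ₁ hψ₂).1)
  refine ⟨w, ShortComplex.exact_of_iso iso hex, epi_of_epi (inv.app _) ψ₂, fun hlci => ?_⟩
  haveI : Mono ψ₁ := mono_of_basis ψ₁ hB (by
    rintro _ ⟨O, U, W, hc, rfl⟩
    exact injective_of_lci hm1 hc hZ hY hm2 hlci hψ₁)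
  exact ShortComplex.shortExact_of_iso iso { exact := hex, mono_f := inferInstanceAs (Mono ψ₁), epi_g := hepi }

end Groth.Agent.OmegaThick
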