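/-
Local splitting of the conormal sequence along a formally smooth morphism.
-/
import Groth.Agent.OmegaThick.Affine
import Groth.Agent.Conormal.Seq
import Groth.Agent.Conormal.BaseChange
import Groth.Agent.Conormal.Omega

set_option autoImplicit false
set_option backward.isDefEq.respectTransparency false
set_option linter.style.haveILetI false

universe u

open AlgebraicGeometry CategoryTheory CategoryTheory.Limits TopologicalSpace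

noncomputable section

namespace Groth.Agent.OmegaThick

open Groth.Agent.QC Groth.Agent.ModDesc Groth.Agent.Conormal

variable {Z Z' Z'' Z₀ P : Scheme.{u}} {i' : Z ⟶ Z'} {k : Z' ⟶ Z''} {i₀ : Z₀ ⟶ P} {s : P ⟶ Z'} {v : Z₀ ⟶ Z}

/-- composites of maps of conormal sheaves -/
theorem conormalMap_comp [QuasiCompact i'] [QuasiCompact i₀]
    {ψ : (Scheme.Modules.pullback (𝟙 Z)).obj (Omega.conormal (i' ≫ k)) ⟶ Omega.conormal i'}
    {φs : (Scheme.Modules.pullback v).obj (Omega.conormal i') ⟶ Omega.conormal i₀}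
    {φ : (Scheme.Modules.pullback v).obj (Omega.conormal (i' ≫ k)) ⟶ Omega.conormal i₀}
    (hψ : OmegaSh.IsConormalMap i' (i' ≫ k) k (𝟙 Z) ψ) (hs : OmegaSh.IsConormalMap i₀ i' s v φs)
    (hφ : OmegaSh.IsConormalMap i₀ (i' ≫ k) (s ≫ k) v φ) :
    (Scheme.Modules.pullback v).map ((Scheme.Modules.pullbackId Z).inv.app _ ≫ ψ) ≫ φs = φ := by
  refine ((Scheme.Modules.pullbackPushforwardAdjunction v).homEquiv _ _).injective
    (Conormal.hom_ext (i' ≫ k) _ _ fun U t => ?_)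
  simp only [Adjunction.homEquiv_unit, Scheme.Modules.Hom.comp_app, ConcreteCategory.comp_apply]
  let x := OmegaSh.conormalSect (i' ≫ k) U t
  show φs.app (v ⁻¹ᵁ ((i' ≫ k) ⁻¹ᵁ U))
      (((Scheme.Modules.pullback v).map ((Scheme.Modules.pullbackId Z).inv.app _ ≫ ψ)).app _
        (OmegaSh.pullSect v (Omega.conormal (i' ≫ k)) ((i' ≫ k) ⁻¹ᵁ U) x)) =
    φ.app (v ⁻¹ᵁ ((i' ≫ k) ⁻¹ᵁ U)) (OmegaSh.pullSect v (Omega.conormal (i' ≫ k)) ((i' ≫ k) ⁻¹ᵁ U) x)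
  erw [app_pullSect]
  obtain ⟨t', ht'⟩ := exists_idealSect_comp k i' U t
  rw [second_app hψ U t t' ht']
  have hle : v ⁻¹ᵁ ((i' ≫ k) ⁻¹ᵁ U) ≤ i₀ ⁻¹ᵁ ((s ≫ k) ⁻¹ᵁ U) := by
    rw [← Scheme.Hom.comp_preimage v, hφ.1, Scheme.Hom.comp_preimage]
  have h0 : i₀.app (s ⁻¹ᵁ (k ⁻¹ᵁ U)) (s.app _ (OmegaSh.idealSect i'.ker (k ⁻¹ᵁ U) t')) = 0 := by
    have key : ∀ (f : Z₀ ⟶ Z'), v ≫ i' = f → f.app (k ⁻¹ᵁ U) (OmegaSh.idealSect i'.ker (k ⁻¹ᵁ U) t') = 0 := by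
      rintro f rfl
      rw [Scheme.Hom.comp_app]
      change v.app _ (i'.app _ _) = 0
      rw [app_idealSect, map_zero]
    exact key _ hs.1
  obtain ⟨a, ha⟩ := exists_idealSect i₀ (s ⁻¹ᵁ (k ⁻¹ᵁ U)) _ h0
  have e1 := hs.2 (k ⁻¹ᵁ U) t' a ha (v ⁻¹ᵁ ((i' ≫ k) ⁻¹ᵁ U)) le_rfl hle
  have e2 := hφ.2 U t a (ha.trans (by rw [ht', Scheme.Hom.comp_app]; rfl)) (v ⁻¹ᵁ ((i' ≫ k) ⁻¹ᵁ U)) le_rfl hle
  exact (res_self _ _ _).symm.trans ((e1.trans e2.symm).trans (res_self _ _ _))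

/-- a section of `k` over an open splits the map of conormal sheaves there -/
theorem exists_retraction [IsClosedImmersion i'] [IsClosedImmersion (i' ≫ k)]
    {ψ : (Scheme.Modules.pullback (𝟙 Z)).obj (Omega.conormal (i' ≫ k)) ⟶ Omega.conormal i'}
    (hψ : OmegaSh.IsConormalMap i' (i' ≫ k) k (𝟙 Z) ψ) (V'' : Z''.Opens) (s : (V'' : Scheme.{u}) ⟶ Z')
    (hs₁ : (i' ≫ k).resLE V'' ((i' ≫ k) ⁻¹ᵁ V'') le_rfl ≫ s = ((i' ≫ k) ⁻¹ᵁ V'').ι ≫ i') (hs₂ : s ≫ k = V''.ι) :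
    ∃ r : (Scheme.Modules.restrictFunctor ((i' ≫ k) ⁻¹ᵁ V'').ι).obj (Omega.conormal i') ⟶
        (Scheme.Modules.restrictFunctor ((i' ≫ k) ⁻¹ᵁ V'').ι).obj
          ((Scheme.Modules.pullback (𝟙 Z)).obj (Omega.conormal (i' ≫ k))),
      (Scheme.Modules.restrictFunctor ((i' ≫ k) ⁻¹ᵁ V'').ι).map ψ ≫ r = 𝟙 _ := by
  let V := (i' ≫ k) ⁻¹ᵁ V''
  let i₀ := (i' ≫ k).resLE V'' V le_rfl
  haveI : IsOpenImmersion (s ≫ k) := by rw [hs₂]; infer_instance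
  have hpb : IsPullback i₀ V.ι (s ≫ k) (i' ≫ k) := IsOpenImmersion.isPullback _ _ _ _
    (by rw [hs₂]; exact ((i' ≫ k).resLE_comp_ι le_rfl).symm)
    (by simp only [hs₂]; rw [Scheme.Opens.opensRange_ι, Scheme.Opens.opensRange_ι])
  haveI : IsClosedImmersion i₀ := ThickProp.isClosedImmersion_left hpb
  obtain ⟨φs, hφs, -⟩ := Conormal.existsUnique_conormalMap i₀ i' s V.ι hs₁.symm
  obtain ⟨φ, hφ, -⟩ := Conormal.existsUnique_conormalMap i₀ (i' ≫ k) (s ≫ k) V.ι hpb.w.symm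
  haveI : Flat (s ≫ k) := inferInstance
  haveI : IsIso φ := (Conormal.epi_isIso_of_isPullback hpb hφ).2 inferInstance
  let pid := (Scheme.Modules.pullbackId Z).app (Omega.conormal (i' ≫ k))
  let F := Scheme.Modules.pullback V.ι
  have h1 : F.map pid.inv ≫ F.map ψ ≫ φs ≫ inv φ = 𝟙 _ := by
    rw [← Category.assoc, ← F.map_comp, ← Category.assoc, show F.map (pid.inv ≫ ψ) ≫ φs = φ from conormalMap_comp hψ hφs hφ, IsIso.hom_inv_id]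
  let r₁ := φs ≫ inv φ ≫ F.map pid.inv
  have h2 : F.map ψ ≫ r₁ = 𝟙 _ := by
    rw [← cancel_epi (F.map pid.inv), Category.comp_id]
    calc F.map pid.inv ≫ F.map ψ ≫ r₁ = (F.map pid.inv ≫ F.map ψ ≫ φs ≫ inv φ) ≫ F.map pid.inv := by
          simp [r₁]
      _ = F.map pid.inv := by rw [h1, Category.id_comp]
  let η := Scheme.Modules.restrictFunctorIsoPullback V.ι
  refine ⟨η.hom.app _ ≫ r₁ ≫ η.inv.app _, ?_⟩
  rw [← Category.assoc, η.hom.naturality ψ, Category.assoc, ← Category.assoc (F.map ψ), h2, Category.id_comp,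
    Iso.hom_inv_id_app]

theorem mono_of_local_split {M N : Z.Modules} (f : M ⟶ N)
    (h : ∀ z : Z, ∃ (U : Z.Opens) (r : (Scheme.Modules.restrictFunctor U.ι).obj N ⟶
      (Scheme.Modules.restrictFunctor U.ι).obj M),
      z ∈ U ∧ (Scheme.Modules.restrictFunctor U.ι).map f ≫ r = 𝟙 _) : Mono f := by
  refine mono_of_basis f (B := {V | ∃ (U : Z.Opens) (r : (Scheme.Modules.restrictFunctor U.ι).obj N ⟶
      (Scheme.Modules.restrictFunctor U.ι).obj M),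
      V ≤ U ∧ (Scheme.Modules.restrictFunctor U.ι).map f ≫ r = 𝟙 _}) ?_ ?_
  · intro O z hz
    obtain ⟨U, r, hzU, hr⟩ := h z
    exact ⟨O ⊓ U, ⟨U, r, inf_le_right, hr⟩, inf_le_left, hz, hzU⟩
  · rintro V ⟨U, r, hVU, hr⟩
    have hV : U.ι ''ᵁ (U.ι ⁻¹ᵁ V) = V := by
      rw [Scheme.Hom.image_preimage_eq_opensRange_inf, Scheme.Opens.opensRange_ι, inf_eq_right]
      exact hVU
    rw [← hV]
    intro x y hxy
    have hx := congr(($hr).app (U.ι ⁻¹ᵁ V) x)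
    have hy := congr(($hr).app (U.ι ⁻¹ᵁ V) y)
    rw [Scheme.Modules.Hom.comp_app, ConcreteCategory.comp_apply] at hx hy
    exact hx.symm.trans ((congrArg (r.app (U.ι ⁻¹ᵁ V)) hxy).trans hy)

/-- local sections of `k` from formal smoothness -/
theorem exists_section {X Y : Scheme.{u}} {i : Z ⟶ X} {p : X ⟶ Y} (hp : MoreMor.IsFormallySmoothHom p)
    {a : Z' ⟶ X} (hZ' : OmegaSh.IsUnivThickening i i' a) {b : Z'' ⟶ Y}
    (hZ'' : OmegaSh.IsUnivThickening (i ≫ p) (i' ≫ k) b) (hk : k ≫ b = a ≫ p)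
    (V'' : Z''.Opens) (hV'' : IsAffineOpen V'') :
    ∃ s : (V'' : Scheme.{u}) ⟶ Z',
      (i' ≫ k).resLE V'' ((i' ≫ k) ⁻¹ᵁ V'') le_rfl ≫ s = ((i' ≫ k) ⁻¹ᵁ V'').ι ≫ i' ∧ s ≫ k = V''.ι := by
  let V := (i' ≫ k) ⁻¹ᵁ V''
  let i₀ := (i' ≫ k).resLE V'' V le_rfl
  have hu₀ := univ_restrict_opens hZ'' V V'' rfl
  have hfot : Fot (i₀ ≫ hV''.isoSpec.hom) := fot_of_isPullback hu₀.1 (f := 𝟙 _) (f' := hV''.isoSpec.inv)
    (IsPullback.of_vert_isIso ⟨by simp [i₀]⟩)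
  obtain ⟨I, hI, e, he⟩ := hfot.exists_spec
  have hb : i₀ ≫ V''.ι ≫ b = V.ι ≫ i ≫ p := by
    rw [Scheme.Hom.resLE_comp_ι_assoc, hZ''.2.1]
  obtain ⟨l₀, hl1, hl2⟩ := hp Γ(Z'', V'') I hI (e.inv ≫ V.ι ≫ i) (hV''.isoSpec.inv ≫ V''.ι ≫ b) (by
    rw [← cancel_epi e.hom, ← Category.assoc, ← he]
    simp only [Category.assoc, Iso.hom_inv_id_assoc]
    exact hb)
  let l := hV''.isoSpec.hom ≫ l₀
  have hli : i₀ ≫ l = V.ι ≫ i := by
    show i₀ ≫ hV''.isoSpec.hom ≫ l₀ = _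
    rw [← Category.assoc, he, Category.assoc, hl1, Iso.hom_inv_id_assoc]
  have hlp : l ≫ p = V''.ι ≫ b := by
    show (hV''.isoSpec.hom ≫ l₀) ≫ p = _
    rw [Category.assoc, hl2, Iso.hom_inv_id_assoc]
  obtain ⟨s, ⟨hs1, hs2⟩, -⟩ := hZ'.2.2 _ _ i₀ l V.ι hu₀.1 hli
  refine ⟨s, hs1, ?_⟩
  exact (hZ''.2.2 _ _ i₀ (l ≫ p) V.ι hu₀.1 (by rw [reassoc_of% hli])).unique
    ⟨by rw [reassoc_of% hs1], by rw [Category.assoc, hk, reassoc_of% hs2]⟩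
    ⟨(i' ≫ k).resLE_comp_ι le_rfl, by rw [hlp]⟩

end Groth.Agent.OmegaThick
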